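import Groth.Agent.AicVanishLib.Affine
import Groth.Agent.EtStrictAcycLib.Stages
import Groth.Agent.S0122

/-!
# Degree zero cohomology of inverse images of an étale sheaf, as a functor of the scheme over the base
-/

set_option autoImplicit false
set_option linter.unusedSectionVars false
set_option linter.style.haveILetI false
set_option backward.isDefEq.respectTransparency false
set_option backward.isDefEq.respectTransparency.types false
set_option maxHeartbeats 1000000
set_option synthInstance.maxHeartbeats 400000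

universe u

open CategoryTheory CategoryTheory.Limits CategoryTheory.Abelian AlgebraicGeometry Opposite DescSecLib
open Groth.Agent Groth.Agent.EtShLib EtAcycLib CovDevLib

noncomputable section

namespace HensVanLib

attribute [local instance] EtSliceLib.pullExact

variable {X : Scheme.{u}} (G : EtCoh.Ab X)

/-- Global sections of the inverse image. -/
abbrev E0 (U : Over X) : Type (u + 1) := EtCoh.H U.left (etSys.M G U) 0

/-- Pullback. -/
abbrev e0map {U V : Over X} (φ : U ⟶ V) : E0 G V →+ E0 G U := etSys.Hmap G 0 φ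

theorem e0map_comp {U V T : Over X} (φ : U ⟶ V) (ψ : V ⟶ T) (e : E0 G T) :
    e0map G φ (e0map G ψ e) = e0map G (φ ≫ ψ) e :=
  (PullSys.Hmap_comp etSys G 0 φ ψ e).symm

theorem bijective_e0map {U V : Over X} (φ : U ⟶ V) [IsIso φ] : Function.Bijective (e0map G φ) := by
  refine ⟨Function.LeftInverse.injective (g := e0map G (inv φ)) fun e => ?_,
    Function.RightInverse.surjective (g := e0map G (inv φ)) fun e => ?_⟩
  · rw [e0map_comp, IsIso.inv_hom_id]
    exact PullSys.Hmap_id etSys G 0 V e
  · rw [e0map_comp, IsIso.hom_inv_id]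
    exact PullSys.Hmap_id etSys G 0 U e

/-- Sections over an étale object. -/
def secE (W : X.Etale) (s : ToType (G.obj.obj (op W))) : E0 G (EtSliceLib.ov W) :=
  EtSliceLib.psi W G 0 (Ext.mk₀ (EtSliceLib.desc W s))

theorem bijective_secE (W : X.Etale) : Function.Bijective (secE G W) :=
  (EtSliceLib.psi_bijective W 0 G).comp ((Ext.mk₀_bijective _ _).comp
    ⟨fun s t h => by rw [← EtSliceLib.desc_gen W s, ← EtSliceLib.desc_gen W t, h],
      fun a => ⟨a.hom.app (op W) (EtSliceLib.gen W), EtSliceLib.free_hom_ext W (EtSliceLib.desc_gen W _)⟩⟩)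

theorem desc_add {W : X.Etale} (s t : ToType (G.obj.obj (op W))) :
    EtSliceLib.desc W (s + t) = EtSliceLib.desc W s + EtSliceLib.desc W t := by
  refine EtSliceLib.free_hom_ext W ?_
  rw [EtSliceLib.desc_gen]
  show _ = (EtSliceLib.desc W s).hom.app (op W) (EtSliceLib.gen W) + (EtSliceLib.desc W t).hom.app (op W) (EtSliceLib.gen W)
  rw [EtSliceLib.desc_gen, EtSliceLib.desc_gen]

theorem secE_add (W : X.Etale) (s t : ToType (G.obj.obj (op W))) : secE G W (s + t) = secE G W s + secE G W t := by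
  rw [secE, desc_add, Ext.mk₀_add, map_add]
  rfl

theorem secE_natural {U V : X.Etale} (φ : U ⟶ V) (s : ToType (G.obj.obj (op V))) :
    e0map G (EtSliceLib.ovMap φ) (secE G V s) = secE G U (G.obj.map φ.op s) := by
  refine (EtSliceLib.Hmap_psi G φ _).trans ?_
  rw [Ext.mk₀_comp_mk₀]
  refine congrArg (fun a => EtSliceLib.psi U G 0 (Ext.mk₀ a)) (EtSliceLib.free_hom_ext U ?_)
  rw [EtSliceLib.freeMap_app, EtSliceLib.desc_gen, EtSliceLib.desc_gen]

/-- The composition rule, along any composite. -/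
theorem theta_comp {U V T : Over X} (φ : U ⟶ V) (ψ : V ⟶ T) (χ : U ⟶ T) (h : φ ≫ ψ = χ)
    (g : U.left ⟶ T.left) (hg : φ.left ≫ ψ.left = g) (h' : χ.left = g) :
    (EtCoh.pull φ.left).map (etSys.θ G ψ) ≫ etSys.θ G φ =
      (etSys.c φ.left ψ.left χ.left (by rw [h']; exact hg)).app _ ≫ etSys.θ G χ := by
  subst h
  exact PullSys.θ_comp etSys G φ ψ

theorem isIso_etθ {U V : Over X} (φ : U ⟶ V) : IsIso (etSys.θ G φ) := EtContLib.isIso_theta G φ

section Closed

variable {Y : Scheme.{u}} (i : Y ⟶ X)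

/-- An étale object of the closed subscheme, over the base. -/
abbrev oY (W : Y.Etale) : Over X := Over.mk (W.hom ≫ i)

/-- Morphisms. -/
abbrev oYmap {W' W : Y.Etale} (a : W' ⟶ W) : oY i W' ⟶ oY i W :=
  Over.homMk a.left (show a.left ≫ W.hom ≫ i = W'.hom ≫ i by rw [← Category.assoc, MorphismProperty.Over.w a])

/-- The structure map. -/
abbrev φY (W : Y.Etale) : oY i W ⟶ Over.mk i := Over.homMk W.hom rfl

/-- Sections of the inverse image. -/
def secT (W : Y.Etale) (s : ToType (((EtCoh.pull i).obj G).obj.obj (op W))) : E0 G (oY i W) :=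
  Ext.comp (secE ((EtCoh.pull i).obj G) W s) (Ext.mk₀ (etSys.θ G (φY i W))) (add_zero 0)

theorem secT_add (W : Y.Etale) (s t : ToType (((EtCoh.pull i).obj G).obj.obj (op W))) :
    secT G i W (s + t) = secT G i W s + secT G i W t := by
  rw [secT, secE_add, Ext.add_comp]
  rfl

theorem bijective_secT (W : Y.Etale) : Function.Bijective (secT G i W) := by
  haveI := isIso_etθ G (φY i W)
  refine Function.Bijective.comp (g := fun x => Ext.comp x (Ext.mk₀ (etSys.θ G (φY i W))) (add_zero 0)) ?_
    (bijective_secE _ W)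
  refine ⟨Function.LeftInverse.injective (g := fun x => Ext.comp x (Ext.mk₀ (inv (etSys.θ G (φY i W)))) (add_zero 0)) fun e => ?_,
    Function.RightInverse.surjective (g := fun x => Ext.comp x (Ext.mk₀ (inv (etSys.θ G (φY i W)))) (add_zero 0)) fun e => ?_⟩
  · show Ext.comp (Ext.comp e _ (add_zero 0)) _ (add_zero 0) = e
    rw [Ext.comp_assoc_of_second_deg_zero, Ext.mk₀_comp_mk₀, IsIso.hom_inv_id, Ext.comp_mk₀_id]
  · show Ext.comp (Ext.comp e _ (add_zero 0)) _ (add_zero 0) = e
    rw [Ext.comp_assoc_of_second_deg_zero, Ext.mk₀_comp_mk₀, IsIso.inv_hom_id, Ext.comp_mk₀_id]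

theorem secT_natural {W' W : Y.Etale} (a : W' ⟶ W) (s : ToType (((EtCoh.pull i).obj G).obj.obj (op W))) :
    e0map G (oYmap i a) (secT G i W s) = secT G i W' (((EtCoh.pull i).obj G).obj.map a.op s) := by
  have h1 : oYmap i a ≫ φY i W = φY i W' := Over.OverMorphism.ext (MorphismProperty.Over.w a)
  have h2 := theta_comp G (oYmap i a) (φY i W) (φY i W') h1 W'.hom (MorphismProperty.Over.w a) rfl
  rw [secT, secT, ← secE_natural]
  generalize secE ((EtCoh.pull i).obj G) W s = x
  refine (PullSys.Hmap_apply etSys G 0 (oYmap i a) _).trans ?_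
  rw [Ext.mapExactFunctor_comp, Ext.mapExactFunctor_mk₀]
  erw [PullSys.Hmap_apply]
  rw [EtSliceLib.theta_eq_c]
  simp only [Ext.comp_assoc_of_third_deg_zero, Ext.mk₀_comp_mk₀]
  exact congrArg (fun t => Ext.comp _ (Ext.comp _ (Ext.mk₀ t) (add_zero 0)) (zero_add 0)) h2

end Closed

section Gabber

variable {B : Type u} [CommRing B] (J : Ideal B) [HenselianRing B J]

/-- Restriction of global sections to the closed subscheme of a henselian pair. -/
theorem bijective_Hpull_zero (F : EtCoh.Ab (Spec (CommRingCat.of B))) :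
    Function.Bijective (EtCore.Hpull (Spec.map (CommRingCat.ofHom (Ideal.Quotient.mk J))) F 0) := by
  let i := Spec.map (CommRingCat.ofHom (Ideal.Quotient.mk J))
  haveI : IsClosedImmersion i := IsClosedImmersion.spec_of_surjective _ Ideal.Quotient.mk_surjective
  have conv : Function.Bijective (EtCore.Hpull i F 0) ↔
      Function.Bijective (Sheaf.H.map ((EtCoh.pullPushAdj i).unit.app F) 0) := by
    rw [← Function.Bijective.of_comp_iff' (bijective_mu (p := i) ((EtCoh.pull i).obj F) 0)]
    exact iff_of_eq (congrArg Function.Bijective (funext fun x => (AicVanishLib.mu_map_unit i F 0 x).symm))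
  refine conv.2 ?_
  obtain ⟨hT⟩ := isTerminal_top (Spec (CommRingCat.of B))
  have := Groth.Agent.S0122.result B J F
  refine (Function.Bijective.of_comp_iff' (Sheaf.H.equiv₀ _ hT).bijective _).1 ?_
  refine (iff_of_eq (congrArg Function.Bijective (funext fun x =>
    (Sheaf.H.equiv₀_naturality hT ((EtCoh.pullPushAdj i).unit.app F) x).symm))).2 ?_
  exact this.comp (Sheaf.H.equiv₀ F hT).bijective

theorem bijective_e0map_quotient (t : Spec (CommRingCat.of B) ⟶ X) {g : Spec (CommRingCat.of (B ⧸ J)) ⟶ X}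
    (h : Spec.map (CommRingCat.ofHom (Ideal.Quotient.mk J)) ≫ t = g) :
    Function.Bijective (e0map G (Over.homMk (Spec.map (CommRingCat.ofHom (Ideal.Quotient.mk J))) h :
      Over.mk g ⟶ Over.mk t)) := by
  let φ : Over.mk g ⟶ Over.mk t := Over.homMk (Spec.map (CommRingCat.ofHom (Ideal.Quotient.mk J))) h
  haveI := isIso_etθ G φ
  have hb := bijective_Hpull_zero J ((EtCoh.pull t).obj G)
  have e : ⇑(e0map G φ) = (fun x => Ext.comp x (Ext.mk₀ (etSys.θ G φ)) (add_zero 0)) ∘
      EtCore.Hpull (Spec.map (CommRingCat.ofHom (Ideal.Quotient.mk J))) ((EtCoh.pull t).obj G) 0 := funext fun x => by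
    rw [show e0map G φ x = _ from PullSys.Hmap_apply etSys G 0 φ x]
    show _ = Ext.comp ((Ext.mk₀ (EtCore.pullConst _ ℤ).inv).comp _ (zero_add 0)) _ (add_zero 0)
    rw [EtSliceLib.pullConst_inv_eq_etZ]
    rfl
  rw [show (Over.homMk (Spec.map (CommRingCat.ofHom (Ideal.Quotient.mk J))) h : Over.mk g ⟶ Over.mk t) = φ from rfl, e]
  refine Function.Bijective.comp ?_ hb
  refine ⟨Function.LeftInverse.injective (g := fun x => Ext.comp x (Ext.mk₀ (inv (etSys.θ G φ))) (add_zero 0)) fun e => ?_,
    Function.RightInverse.surjective (g := fun x => Ext.comp x (Ext.mk₀ (inv (etSys.θ G φ))) (add_zero 0)) fun e => ?_⟩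
  · show Ext.comp (Ext.comp e _ (add_zero 0)) _ (add_zero 0) = e
    rw [Ext.comp_assoc_of_second_deg_zero, Ext.mk₀_comp_mk₀, IsIso.hom_inv_id, Ext.comp_mk₀_id]
  · show Ext.comp (Ext.comp e _ (add_zero 0)) _ (add_zero 0) = e
    rw [Ext.comp_assoc_of_second_deg_zero, Ext.mk₀_comp_mk₀, IsIso.inv_hom_id, Ext.comp_mk₀_id]

end Gabber

end HensVanLib
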