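import Groth.Agent.HensVanLib.Comp

/-!
# Henselized localizations are exhausted by étale algebras
-/

set_option autoImplicit false
set_option linter.unusedSectionVars false
set_option linter.style.haveILetI false
set_option backward.isDefEq.respectTransparency false
set_option backward.isDefEq.respectTransparency.types false
set_option maxHeartbeats 1000000
set_option synthInstance.maxHeartbeats 400000

universe u

open CategoryTheory CategoryTheory.Limits CategoryTheory.Abelian AlgebraicGeometry Opposite DescSecLib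
open Groth.Agent Groth.Agent.EtShLib HenselBranchLib TensorProduct EtModInjLib

noncomputable section

namespace HensVanLib

attribute [local instance] EtSliceLib.pullExact

variable {A : Type u} [CommRing A] {A' : Type u} [CommRing A'] [Algebra A A'] {S : Type u} [CommRing S]
  [Algebra A' S] [Algebra A S] [IsScalarTower A A' S]

/-- The algebra structure of a model over the base. -/
instance (priority := 100) algU (i : EtObj A' S) : Algebra A i.U := ((algebraMap A' i.U).comp (algebraMap A A')).toAlgebra

instance (i : EtObj A' S) : IsScalarTower A A' i.U := IsScalarTower.of_algebraMap_eq' rfl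

variable [Algebra.Etale A A']

instance etaleU (i : EtObj A' S) : Algebra.Etale A i.U := by
  haveI := i.etale_U
  exact Algebra.Etale.comp A A' i.U

/-- The structure map over the base. -/
def homA (i : EtObj A' S) : i.U →ₐ[A] S := i.hom.restrictScalars A

/-- A transition map over the base. -/
def mapA {i j : EtObj A' S} (f : i ⟶ j) : i.U →ₐ[A] j.U := f.1.restrictScalars A

theorem homA_mapA {i j : EtObj A' S} (f : i ⟶ j) : (homA (A := A) j).comp (mapA f) = homA i :=
  AlgHom.ext fun x => AlgHom.congr_fun f.2 x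

/-- Every étale algebra over the base mapping to `S` factors through a model. -/
theorem exists_factor {U : Type u} [CommRing U] [Algebra A U] [Algebra.Etale A U] (φ : U →ₐ[A] S) :
    ∃ (j : EtObj A' S) (ψ : U →ₐ[A] j.U), (homA j).comp ψ = φ := by
  let φ' : A' ⊗[A] U →ₐ[A'] S := Algebra.TensorProduct.lift (Algebra.ofId A' S) φ fun _ _ => Commute.all _ _
  obtain ⟨j, e, he⟩ := exists_obj φ'
  refine ⟨j, ((e.toAlgHom.restrictScalars A)).comp Algebra.TensorProduct.includeRight, AlgHom.ext fun x => ?_⟩
  have := AlgHom.congr_fun he ((1 : A') ⊗ₜ x)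
  refine this.trans ?_
  simp [φ']

variable {I : Ideal A} (hS : Hens2.IsPairHenselization A' (I.map (algebraMap A A')) S)
include hS

theorem isInd : IsInd (A := A) S := by
  haveI := Groth.Agent.IndEtQuotLib.isFiltered_etObj (A := A') (Cb := S)
  obtain ⟨hc⟩ := exists_etColimit hS
  refine ⟨fun x => ?_, fun U _ _ _ φ u hu => ?_⟩
  · obtain ⟨i, y, hy⟩ := Concrete.isColimit_exists_rep (etDiag A' S) hc x
    exact ⟨i.U, inferInstance, inferInstance, inferInstance, homA i, y, hy⟩
  · obtain ⟨j, ψ, rfl⟩ := exists_factor (A' := A') φ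
    obtain ⟨k, f, g, hfg⟩ := Concrete.isColimit_exists_of_rep_eq.{u} (etDiag A' S) hc (i := j) (j := j) (ψ u) (0 : j.U)
      (by
        show j.hom (ψ u) = j.hom 0
        rw [map_zero]
        exact hu)
    refine ⟨k.U, inferInstance, inferInstance, inferInstance, (mapA f).comp ψ, homA k, ?_, ?_⟩
    · rw [← AlgHom.comp_assoc, homA_mapA]
    · exact hfg.trans (map_zero (mapA (A := A) g))

variable (G : EtCoh.Ab (Spec (CommRingCat.of A)))

theorem classes_from_etale :
    (∀ ξ : E0 G (oA (A := A) S), ∃ (U : Type u) (_ : CommRing U) (_ : Algebra A U) (_ : Algebra.Etale A U)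
      (φ : U →ₐ[A] S) (s : ToType (G.obj.obj (op (eW A U)))), e0map G (oAmap φ) (secE G (eW A U) s) = ξ) ∧
    ∀ (U : Type u) [CommRing U] [Algebra A U] [Algebra.Etale A U] (φ : U →ₐ[A] S)
      (s : ToType (G.obj.obj (op (eW A U)))), e0map G (oAmap φ) (secE G (eW A U) s) = 0 →
      ∃ (U' : Type u) (_ : CommRing U') (_ : Algebra A U') (_ : Algebra.Etale A U') (ψ : U →ₐ[A] U')
        (φ' : U' →ₐ[A] S), φ'.comp ψ = φ ∧ G.obj.map (eWmap ψ).op s = 0 := by
  haveI := Groth.Agent.IndEtQuotLib.isFiltered_etObj (A := A') (Cb := S)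
  obtain ⟨hc⟩ := exists_etColimit hS
  let D : (EtObj A' S)ᵒᵖ ⥤ Scheme.{u} := (etDiag A' S).op ⋙ Scheme.Spec
  let c : Cone D := Scheme.Spec.mapCone (etCocone A' S).op
  have hlim : IsLimit c := isLimitOfPreserves Scheme.Spec hc.op
  haveI : ∀ i, IsAffine (D.obj i) := fun i => inferInstanceAs (IsAffine (Spec _))
  haveI : ∀ (i j : (EtObj A' S)ᵒᵖ) (f : i ⟶ j), IsAffineHom (D.map f) := fun i j f => isAffineHom_of_isAffine _
  let τ : D ⟶ (Functor.const _).obj (Spec (CommRingCat.of A)) :=
    { app := fun i => Spec.map (CommRingCat.ofHom (algebraMap A i.unop.U))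
      naturality := fun i j f => by
        show Spec.map _ ≫ Spec.map _ = Spec.map _ ≫ 𝟙 _
        rw [Category.comp_id, ← Spec.map_comp]
        exact congrArg Spec.map (CommRingCat.hom_ext (RingHom.ext fun a => (mapA (A := A) f.unop).commutes a)) }
  let f₀ := Spec.map (CommRingCat.ofHom (algebraMap A S))
  have w : ∀ i, c.π.app i ≫ τ.app i = f₀ := fun i => by
    show Spec.map _ ≫ Spec.map _ = Spec.map _
    rw [← Spec.map_comp]
    exact congrArg Spec.map (CommRingCat.hom_ext (RingHom.ext fun a => (homA (A := A) i.unop).commutes a))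
  refine ⟨fun ξ => ?_, fun U _ _ _ φ s hs => ?_⟩
  · obtain ⟨i, x, hx⟩ := EtStrictAcycLib.exists_Hmap_stgPt G τ c hlim f₀ w 0 ξ
    obtain ⟨s, hs⟩ := (bijective_secE G (eW A i.unop.U)).2 x
    refine ⟨i.unop.U, inferInstance, inferInstance, inferInstance, homA i.unop, s, ?_⟩
    rw [hs]
    exact hx
  · obtain ⟨j, ψ, rfl⟩ := exists_factor (A' := A') φ
    have h1 : etSys.Hmap G 0 (EtContLib.stgPt τ c f₀ w (op j))
        (secE G (eW A j.U) (G.obj.map (eWmap ψ).op s)) = 0 := by
      rw [← secE_natural]
      refine Eq.trans ?_ hs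
      rw [← oAmap_comp, ← e0map_comp]
      rfl
    obtain ⟨k, a, ha⟩ := EtStrictAcycLib.exists_Hmap_stgMap G τ c hlim f₀ w 0 (op j) _ h1
    refine ⟨k.unop.U, inferInstance, inferInstance, inferInstance, (mapA a.unop).comp ψ, homA k.unop, ?_, ?_⟩
    · rw [← AlgHom.comp_assoc, homA_mapA]
    · refine (bijective_secE G (eW A k.unop.U)).1 ?_
      have h0 : secE G (eW A k.unop.U) 0 = 0 := by
        have := secE_add G (eW A k.unop.U) 0 0
        rw [add_zero] at this
        exact left_eq_add.1 this
      rw [h0, ← secE_natural]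
      refine Eq.trans ?_ ha
      rw [← secE_natural]
      refine Eq.trans ?_ (e0map_comp G (EtContLib.stgMap τ a) (EtSliceLib.ovMap (eWmap ψ)) (secE G (eW A U) s)).symm
      exact congrArg (fun φ => e0map G φ (secE G (eW A U) s)) (Over.OverMorphism.ext
        (Spec.map_comp (CommRingCat.ofHom ψ.toRingHom) (CommRingCat.ofHom (mapA (A := A) a.unop).toRingHom)))

end HensVanLib
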