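import Groth.Agent.EtModInjLib.Affine
import Groth.Agent.EtZarLib.Assoc
import Groth.Agent.S9436

/-!
# Quasi-coherent étale sheaves restricted to closed subschemes of affine schemes, in characteristic `p`
-/

set_option autoImplicit false
set_option linter.unusedSectionVars false
set_option linter.style.haveILetI false
set_option backward.isDefEq.respectTransparency false
set_option backward.isDefEq.respectTransparency.types false
set_option maxHeartbeats 1000000
set_option synthInstance.maxHeartbeats 400000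

universe u

open CategoryTheory CategoryTheory.Limits CategoryTheory.Abelian AlgebraicGeometry Opposite
open Groth.Agent Groth.Agent.EtShLib HenselBranchLib TensorProduct

noncomputable section

namespace HensVanLib

attribute [local instance] EtSliceLib.pullExact

theorem subsingleton_ext_cechAcyclicA {X : Scheme.{u}} {M : EtCoh.Ab X} {W : X.Etale} (R : SectRep M W)
    (hW : IsAffine W.left) : ∀ (p : ℕ) (G : EtCoh.Ab X), CechAcyclicA G → Subsingleton (Ext.{u + 1} M G (p + 1))
  | 0, G, hG => by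
    haveI : Injective (CohLib.injSC G).X₂ := inferInstanceAs (Injective (Injective.under G))
    haveI := CohLib.subsingleton_ext_injective.{u + 1} M (CohLib.injSC G).X₂ 0
    refine CohLib.subsingleton_ext_one_of_lift (CohLib.injSC_shortExact G) fun s => ?_
    obtain ⟨t, ht⟩ := surjective_sectionsA (CohLib.injSC_shortExact G) hG hW (R.e _ s)
    refine ⟨(R.e _).symm t, (R.e _).injective ?_⟩
    rw [← R.nat, AddEquiv.apply_symm_apply]
    exact ht
  | p + 1, G, hG => by
    haveI : Injective (CohLib.injSC G).X₂ := inferInstanceAs (Injective (Injective.under G))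
    haveI := CohLib.subsingleton_ext_injective.{u + 1} M (CohLib.injSC G).X₂ (p + 1)
    haveI := subsingleton_ext_cechAcyclicA R hW p _ (cechAcyclicA_quotient (CohLib.injSC_shortExact G) hG)
    exact CohLib.subsingleton_ext_of_shift (CohLib.injSC_shortExact G)

theorem subsingleton_H_pullObj {X : Scheme.{u}} (F : EtCoh.Ab X) (hF : CechAcyclicA F) (W : X.Etale)
    (hW : IsAffine W.left) (p : ℕ) : Subsingleton (EtCoh.H W.left ((EtCoh.pull W.hom).obj F) (p + 1)) := by
  obtain ⟨R⟩ : Nonempty (SectRep (EtSliceLib.free W) W) := ⟨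
    { e := fun G =>
        { toFun := fun a => a.hom.app (op W) (EtSliceLib.gen W)
          invFun := fun s => EtSliceLib.desc W s
          left_inv := fun a => EtSliceLib.free_hom_ext W (EtSliceLib.desc_gen W _)
          right_inv := fun s => EtSliceLib.desc_gen W s
          map_add' := fun a b => rfl }
      nat := fun {G G'} a f => rfl }⟩
  haveI := subsingleton_ext_cechAcyclicA R hW p F hF
  exact ⟨fun a b => by
    obtain ⟨a', rfl⟩ := (EtSliceLib.psi_bijective W (p + 1) F).2 a
    obtain ⟨b', rfl⟩ := (EtSliceLib.psi_bijective W (p + 1) F).2 b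
    rw [Subsingleton.elim a' b']⟩

variable {X : Scheme.{u}} {A : Type u} [CommRing A] (t : Spec (CommRingCat.of A) ⟶ X) [Etale t]

theorem subsingleton_H_hens (F : EtCoh.Ab X) (hF : CechAcyclicA F) {I : Ideal A} {B : Type u} [CommRing B] [Algebra A B]
    (hB : Hens2.IsPairHenselization A I B) (p : ℕ) :
    Subsingleton (EtCoh.H (Spec (CommRingCat.of B))
      ((EtCoh.pull (Spec.map (CommRingCat.ofHom (algebraMap A B)) ≫ t)).obj F) (p + 1)) := by
  haveI := Groth.Agent.IndEtQuotLib.isFiltered_etObj (A := A) (Cb := B)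
  obtain ⟨hc⟩ := EtModInjLib.exists_etColimit hB
  let D : (EtObj A B)ᵒᵖ ⥤ Scheme.{u} := (EtModInjLib.etDiag A B).op ⋙ Scheme.Spec
  let c : Cone D := Scheme.Spec.mapCone (EtModInjLib.etCocone A B).op
  have hlim : IsLimit c := isLimitOfPreserves Scheme.Spec hc.op
  haveI : ∀ i, IsAffine (D.obj i) := fun i => inferInstanceAs (IsAffine (Spec _))
  haveI : ∀ (i j : (EtObj A B)ᵒᵖ) (f : i ⟶ j), IsAffineHom (D.map f) := fun i j f => isAffineHom_of_isAffine _
  let τ : D ⟶ (Functor.const _).obj X :=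
    { app := fun i => Spec.map (CommRingCat.ofHom (algebraMap A i.unop.U)) ≫ t
      naturality := fun i j f => by
        show Spec.map _ ≫ Spec.map _ ≫ t = (Spec.map _ ≫ t) ≫ 𝟙 _
        rw [Category.comp_id, ← Category.assoc, ← Spec.map_comp]
        refine congrArg (fun r => Spec.map r ≫ t) (CommRingCat.hom_ext (RingHom.ext fun a => ?_))
        exact f.unop.1.commutes a }
  let f₀ := Spec.map (CommRingCat.ofHom (algebraMap A B)) ≫ t
  have w : ∀ i, c.π.app i ≫ τ.app i = f₀ := fun i => by
    show Spec.map _ ≫ Spec.map _ ≫ t = Spec.map _ ≫ t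
    rw [← Category.assoc, ← Spec.map_comp]
    exact congrArg (fun r => Spec.map r ≫ t) (CommRingCat.hom_ext (RingHom.ext fun a => i.unop.hom.commutes a))
  refine ⟨fun a b => ?_⟩
  suffices h : ∀ ξ : EtCoh.H c.pt ((EtCoh.pull f₀).obj F) (p + 1), ξ = 0 from (h a).trans (h b).symm
  intro ξ
  obtain ⟨i, x, hx⟩ := (EtContLib.pullPre F τ).surjective ((EtCoh.pull f₀).obj F)
    (EtContLib.pullPsi F τ c f₀ w) (fun {j k} h => EtContLib.pullPsi_compat F τ c f₀ w h) hlim
    (EtContLib.isLim_pullPre F τ c f₀ w) (p + 1) ξ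
  haveI := i.unop.etale_U
  haveI : Etale (Spec.map (CommRingCat.ofHom (algebraMap A i.unop.U))) :=
    (HasRingHomProperty.Spec_iff (P := @Etale)).2 (RingHom.etale_algebraMap.2 i.unop.etale_U)
  let W : X.Etale := MorphismProperty.Over.mk ⊤ (τ.app i)
    (inferInstanceAs (Etale (Spec.map (CommRingCat.ofHom (algebraMap A i.unop.U)) ≫ t)))
  haveI : Subsingleton (EtCoh.H (D.obj i) ((EtCoh.pull (τ.app i)).obj F) (p + 1)) :=
    subsingleton_H_pullObj F hF W (inferInstanceAs (IsAffine (D.obj i))) p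
  have : x = 0 := Subsingleton.elim (α := EtCoh.H (D.obj i) ((EtCoh.pull (τ.app i)).obj F) (p + 1)) _ _
  rw [← hx, this, map_zero]

/-- Vanishing on a closed subscheme of an affine étale object. -/
theorem subsingleton_H_closed (F : EtCoh.Ab X) (hF : CechAcyclicA F) (hT : EtCoh.IsTorsion F) (I : Ideal A) (p : ℕ) :
    Subsingleton (EtCoh.H (Spec (CommRingCat.of (A ⧸ I)))
      ((EtCoh.pull (Spec.map (CommRingCat.ofHom (Ideal.Quotient.mk I)) ≫ t)).obj F) (p + 1)) := by
  obtain ⟨B, _, _, hB⟩ := Groth.Agent.S2051.result A I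
  haveI : HenselianRing B (I.map (algebraMap A B)) := hB.1
  let J := I.map (algebraMap A B)
  let i := Spec.map (CommRingCat.ofHom (Ideal.Quotient.mk J))
  let F' := (EtCoh.pull (Spec.map (CommRingCat.ofHom (algebraMap A B)) ≫ t)).obj F
  haveI : IsClosedImmersion i := IsClosedImmersion.spec_of_surjective _ Ideal.Quotient.mk_surjective
  have hg := AicVanishLib.gabber_affine B J F' (CdCurveLib.isTorsion_pull_map _ hT) (p + 1)
  have h1 : Subsingleton (EtCoh.H (Spec (CommRingCat.of B)) ((EtCoh.push i).obj ((EtCoh.pull i).obj F')) (p + 1)) :=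
    @Function.Surjective.subsingleton _ _ _ (subsingleton_H_hens t F hF hB p) hg.2
  have h2 : Subsingleton (EtCoh.H (Spec (CommRingCat.of (B ⧸ J))) ((EtCoh.pull i).obj F') (p + 1)) :=
    haveI := h1; (AicVanishLib.bijective_mu_integral (p := i) ((EtCoh.pull i).obj F') (p + 1)).2.subsingleton
  have hq := (Groth.Agent.S1958.result A I B hB).2 1
  rw [pow_one] at hq
  let φ := CommRingCat.ofHom (Ideal.quotientMap J (algebraMap A B) Ideal.le_comap_map : A ⧸ I →+* B ⧸ J)
  haveI : IsIso φ := (ConcreteCategory.isIso_iff_bijective φ).2 hq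
  let e := Spec.map φ
  have hcomm : e ≫ Spec.map (CommRingCat.ofHom (Ideal.Quotient.mk I)) =
      i ≫ Spec.map (CommRingCat.ofHom (algebraMap A B)) := by
    rw [← Spec.map_comp, ← Spec.map_comp]
    refine congrArg Spec.map (CommRingCat.hom_ext (RingHom.ext fun a => ?_))
    exact Ideal.quotientMap_mk (f := algebraMap A B) (H := Ideal.le_comap_map) (x := a)
  have hc' : e ≫ Spec.map (CommRingCat.ofHom (Ideal.Quotient.mk I)) ≫ t =
      i ≫ Spec.map (CommRingCat.ofHom (algebraMap A B)) ≫ t := by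
    rw [← Category.assoc, hcomm, Category.assoc]
  let G := (EtCoh.pull (Spec.map (CommRingCat.ofHom (Ideal.Quotient.mk I)) ≫ t)).obj F
  have iso : (EtCoh.pull i).obj F' ≅ (EtCoh.pull e).obj G :=
    (((EtCore.pullComp i (Spec.map (CommRingCat.ofHom (algebraMap A B)) ≫ t)).app F).symm ≪≫
      (EtCore.pullCongr hc'.symm).app F) ≪≫
      (EtCore.pullComp e (Spec.map (CommRingCat.ofHom (Ideal.Quotient.mk I)) ≫ t)).app F
  haveI := EtModInjLib.subsingleton_H_of_sheafIso iso (p + 1) h2
  exact (Groth.Agent.S0642.result e G (p + 1)).1.subsingleton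

/-- In characteristic `p` a quasi-coherent étale sheaf is torsion. -/
theorem isTorsion_of_isAssoc {R : CommRingCat.{u}} (p : ℕ) (hp : 0 < p) (h0 : (p : R) = 0)
    {F : (Spec R).Modules} {G : EtCoh.Ab (Spec R)} (hG : EtAssoc.IsAssoc F G) : EtCoh.IsTorsion G := by
  obtain ⟨e, -⟩ := hG
  intro U s x
  refine ⟨U, 𝟙 U, ⟨x, rfl⟩, ?_⟩
  rw [op_id, G.obj.map_id]
  refine isOfFinAddOrder_iff_nsmul_eq_zero.2 ⟨p, hp, (e U).injective (ULift.ext _ _ ?_)⟩
  rw [show (ConcreteCategory.hom (𝟙 (G.obj.obj (op U)))) s = s from rfl, map_nsmul, map_zero]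
  show p • (show EtZarLib.sec F U from ((e U) s).down) = 0
  have h1 : (p : Γ(U.left, ⊤)) = 0 := by
    have h := congrArg ((Scheme.ΓSpecIso R).inv ≫ U.hom.appTop).hom h0
    rwa [map_natCast, map_zero] at h
  rw [← Nat.cast_smul_eq_nsmul Γ(U.left, ⊤), h1, zero_smul]

/-- Affine étale objects of a closed subscheme of an affine scheme come from the ambient scheme. -/
theorem exists_lift_affine {A : Type u} [CommRing A] (I : Ideal A) (T : (Spec (CommRingCat.of (A ⧸ I))).Etale)
    [IsAffine T.left] :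
    ∃ (C : Type u) (_ : CommRing C) (_ : Algebra A C) (_ : Algebra.Etale A C)
      (e : T.left ⟶ Spec (CommRingCat.of (C ⧸ I.map (algebraMap A C)))), IsIso e ∧
      e ≫ Spec.map (CommRingCat.ofHom (Ideal.Quotient.mk (I.map (algebraMap A C)))) ≫
          Spec.map (CommRingCat.ofHom (algebraMap A C)) =
        T.hom ≫ Spec.map (CommRingCat.ofHom (Ideal.Quotient.mk I)) := by
  let φ : CommRingCat.of (A ⧸ I) ⟶ Γ(T.left, ⊤) := Spec.preimage (T.left.isoSpec.inv ≫ T.hom)
  have hφ : Spec.map φ = T.left.isoSpec.inv ≫ T.hom := Spec.map_preimage _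
  letI : Algebra (A ⧸ I) Γ(T.left, ⊤) := φ.hom.toAlgebra
  haveI : Algebra.Etale (A ⧸ I) Γ(T.left, ⊤) := by
    haveI : Etale T.hom := T.prop
    have h : Etale (Spec.map φ) := hφ ▸ inferInstanceAs (Etale (T.left.isoSpec.inv ≫ T.hom))
    exact RingHom.etale_algebraMap.1 ((HasRingHomProperty.Spec_iff (P := @Etale)).1 h)
  obtain ⟨C, _, _, hC, ⟨ε⟩⟩ := Groth.Agent.S9436.result A I Γ(T.left, ⊤)
  let J := I.map (algebraMap A C)
  let e₁ : (C ⧸ J) ≃+* Γ(T.left, ⊤) :=
    ((Algebra.TensorProduct.quotIdealMapEquivTensorQuot C I).toRingEquiv.trans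
      (Algebra.TensorProduct.comm A C (A ⧸ I)).toRingEquiv).trans ε.toRingEquiv
  have he₁ : ∀ a : A, e₁ (Ideal.Quotient.mk J (algebraMap A C a)) = φ.hom (Ideal.Quotient.mk I a) := fun a => by
    have h1 : (Algebra.TensorProduct.comm A C (A ⧸ I)) ((Algebra.TensorProduct.quotIdealMapEquivTensorQuot C I)
        (Ideal.Quotient.mk J (algebraMap A C a))) = algebraMap (A ⧸ I) ((A ⧸ I) ⊗[A] C) (Ideal.Quotient.mk I a) := by
      rw [Algebra.TensorProduct.quotIdealMapEquivTensorQuot_mk, Algebra.TensorProduct.comm_tmul,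
        Algebra.TensorProduct.algebraMap_apply, Algebra.algebraMap_self, RingHom.id_apply,
        Algebra.algebraMap_eq_smul_one a, TensorProduct.tmul_smul, TensorProduct.smul_tmul']
      congr 1
      rw [Algebra.smul_def, mul_one]
      rfl
    refine (congrArg ε h1).trans ?_
    rw [ε.commutes]
    rfl
  haveI : IsIso (CommRingCat.ofHom e₁.toRingHom) :=
    (ConcreteCategory.isIso_iff_bijective (CommRingCat.ofHom e₁.toRingHom)).2 e₁.bijective
  refine ⟨C, inferInstance, inferInstance, hC, T.left.isoSpec.hom ≫ Spec.map (CommRingCat.ofHom e₁.toRingHom), inferInstance, ?_⟩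
  rw [Category.assoc, ← Spec.map_comp, ← Spec.map_comp, ← cancel_epi T.left.isoSpec.inv, Iso.inv_hom_id_assoc,
    ← Category.assoc, ← hφ, ← Spec.map_comp]
  exact congrArg Spec.map (CommRingCat.hom_ext (RingHom.ext he₁))

/-- Quasi-coherent sheaves in characteristic `p` restricted to a closed subscheme are acyclic on affine étale objects. -/
theorem subsingleton_H_affine {A : Type u} [CommRing A] (I : Ideal A) (p : ℕ) (hp : 0 < p) (h0 : (p : A) = 0)
    (F : (Spec (CommRingCat.of A)).Modules) [F.IsQuasicoherent] (G : EtCoh.Ab (Spec (CommRingCat.of A)))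
    (hG : EtAssoc.IsAssoc F G) (T : (Spec (CommRingCat.of (A ⧸ I))).Etale) [IsAffine T.left] (q : ℕ) :
    Subsingleton (EtCoh.H T.left ((EtCoh.pull T.hom).obj
      ((EtCoh.pull (Spec.map (CommRingCat.ofHom (Ideal.Quotient.mk I)))).obj G)) (q + 1)) := by
  obtain ⟨C, _, _, _, e, _, he⟩ := exists_lift_affine I T
  let t := Spec.map (CommRingCat.ofHom (algebraMap A C))
  haveI : Etale t := (HasRingHomProperty.Spec_iff (P := @Etale)).2 (RingHom.etale_algebraMap.2 ‹_›)
  let g := Spec.map (CommRingCat.ofHom (Ideal.Quotient.mk (I.map (algebraMap A C)))) ≫ t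
  have h1 := subsingleton_H_closed t G (EtZarLib.cechAcyclicA_of_isAssoc hG) (isTorsion_of_isAssoc p hp h0 hG)
    (I.map (algebraMap A C)) q
  let iso : (EtCoh.pull e).obj ((EtCoh.pull g).obj G) ≅
      (EtCoh.pull T.hom).obj ((EtCoh.pull (Spec.map (CommRingCat.ofHom (Ideal.Quotient.mk I)))).obj G) :=
    ((EtCore.pullComp e g).app G).symm ≪≫ (EtCore.pullCongr he).app G ≪≫
      (EtCore.pullComp T.hom (Spec.map (CommRingCat.ofHom (Ideal.Quotient.mk I)))).app G
  refine EtModInjLib.subsingleton_H_of_sheafIso iso (q + 1) ?_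
  exact (Groth.Agent.S0642.result e ((EtCoh.pull g).obj G) (q + 1)).2.subsingleton

end HensVanLib
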