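import Groth.Agent.HensVanLib.Sec
import Groth.Agent.EtModInjLib.PairInd
import Groth.Agent.EtZarLib.Pre
import Mathlib.RingTheory.TensorProduct.Basic

/-!
# Sections of quasi-coherent étale sheaves over ind-étale affine schemes
-/

set_option autoImplicit false
set_option linter.unusedSectionVars false
set_option linter.style.haveILetI false
set_option backward.isDefEq.respectTransparency false
set_option backward.isDefEq.respectTransparency.types false
set_option maxHeartbeats 1000000
set_option synthInstance.maxHeartbeats 400000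

universe u

open CategoryTheory CategoryTheory.Limits CategoryTheory.Abelian AlgebraicGeometry Opposite DescSecLib TopologicalSpace
open Groth.Agent Groth.Agent.EtShLib HenselBranchLib TensorProduct

noncomputable section

namespace HensVanLib

attribute [local instance] EtSliceLib.pullExact

variable {A : Type u} [CommRing A]

/-- The spectrum of an algebra, over the base. -/
abbrev oA (S : Type u) [CommRing S] [Algebra A S] : Over (Spec (CommRingCat.of A)) :=
  Over.mk (Spec.map (CommRingCat.ofHom (algebraMap A S)))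

theorem map_comp_alg {S S' : Type u} [CommRing S] [Algebra A S] [CommRing S'] [Algebra A S'] (φ : S →ₐ[A] S') :
    Spec.map (CommRingCat.ofHom φ.toRingHom) ≫ Spec.map (CommRingCat.ofHom (algebraMap A S)) =
      Spec.map (CommRingCat.ofHom (algebraMap A S')) := by
  rw [← Spec.map_comp]
  exact congrArg Spec.map (CommRingCat.hom_ext (RingHom.ext φ.commutes))

/-- The map of spectra, over the base. -/
abbrev oAmap {S S' : Type u} [CommRing S] [Algebra A S] [CommRing S'] [Algebra A S'] (φ : S →ₐ[A] S') :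
    oA (A := A) S' ⟶ oA (A := A) S :=
  Over.homMk (Spec.map (CommRingCat.ofHom φ.toRingHom)) (map_comp_alg φ)

theorem oAmap_comp {S S' S'' : Type u} [CommRing S] [Algebra A S] [CommRing S'] [Algebra A S'] [CommRing S'']
    [Algebra A S''] (φ : S →ₐ[A] S') (ψ : S' →ₐ[A] S'') : oAmap ψ ≫ oAmap φ = oAmap (ψ.comp φ) :=
  Over.OverMorphism.ext (Spec.map_comp _ _).symm

variable (A) in
/-- The spectrum of an étale algebra, as an étale object. -/
abbrev eW (U : Type u) [CommRing U] [Algebra A U] [Algebra.Etale A U] : (Spec (CommRingCat.of A)).Etale :=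
  MorphismProperty.Over.mk ⊤ (Spec.map (CommRingCat.ofHom (algebraMap A U)))
    ((HasRingHomProperty.Spec_iff (P := @Etale)).2 (RingHom.etale_algebraMap.2 ‹_›))

instance (U : Type u) [CommRing U] [Algebra A U] [Algebra.Etale A U] : IsAffine (eW A U).left :=
  inferInstanceAs (IsAffine (Spec _))

/-- The map of étale objects. -/
abbrev eWmap {U U' : Type u} [CommRing U] [Algebra A U] [Algebra.Etale A U] [CommRing U'] [Algebra A U']
    [Algebra.Etale A U'] (ψ : U →ₐ[A] U') : eW A U' ⟶ eW A U :=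
  MorphismProperty.Over.homMk (Spec.map (CommRingCat.ofHom ψ.toRingHom)) (map_comp_alg ψ)

variable (F : (Spec (CommRingCat.of A)).Modules)

/-- The global sections of the module. -/
abbrev GM : Type u := Γ(F, ⊤)

instance : Module A (GM F) := ((moduleSpecΓFunctor (R := CommRingCat.of A)).obj F).isModule

theorem smul_GM (a : A) (m : GM F) :
    a • m = ((Scheme.ΓSpecIso (CommRingCat.of A)).inv a) • m := by
  refine (show a • m = ((Spec (CommRingCat.of A)).presheaf.map (⊤ : (Spec (CommRingCat.of A)).Opens).leTop.op)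
    ((Scheme.ΓSpecIso (CommRingCat.of A)).inv a) • m from rfl).trans ?_
  congr 1

section Etale

variable (U : Type u) [CommRing U] [Algebra A U] [Algebra.Etale A U]

theorem appLE_algebraMap (a : A) :
    ((eW A U).hom.appLE ⊤ ⊤ le_top).hom ((Scheme.ΓSpecIso (CommRingCat.of A)).inv a) =
      (Scheme.ΓSpecIso (CommRingCat.of U)).inv (algebraMap A U a) := by
  have := ConcreteCategory.congr_hom (Scheme.ΓSpecIso_inv_naturality (CommRingCat.ofHom (algebraMap A U))) a
  refine Eq.trans ?_ this.symm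
  show _ = (Spec.map (CommRingCat.ofHom (algebraMap A U))).appTop _
  rw [Scheme.Hom.appTop, Scheme.Hom.app_eq_appLE]
  rfl

/-- A section times the pullback of a global section. -/
def secMul {X : Scheme.{u}} (F : X.Modules) (W : X.Etale) (r : Γ(W.left, ⊤)) (m : Γ(F, ⊤)) : EtZarLib.sec F W :=
  r • KFlatLib.puSecLE W.hom F (le_top : ⊤ ≤ W.hom ⁻¹ᵁ ⊤) m

/-- The canonical map from the base change to the sections. -/
def mU : U ⊗[A] GM F →+ EtZarLib.sec F (eW A U) :=
  TensorProduct.liftAddHom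
    { toFun := fun u =>
        { toFun := fun m => secMul F (eW A U) ((Scheme.ΓSpecIso (CommRingCat.of U)).inv u) m
          map_zero' := by rw [secMul, map_zero, smul_zero]
          map_add' := fun m m' => by rw [secMul, secMul, secMul, map_add, smul_add] }
      map_zero' := by ext m; exact (congrArg (· • _) (map_zero _)).trans (zero_smul _ _)
      map_add' := fun u u' => by ext m; exact (congrArg (· • _) (map_add _ _ _)).trans (add_smul _ _ _) }
    (fun a u m => by
      show (Scheme.ΓSpecIso (CommRingCat.of U)).inv (a • u) • _ = (Scheme.ΓSpecIso (CommRingCat.of U)).inv u •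
        (KFlatLib.puSecLE (eW A U).hom F (le_top : ⊤ ≤ (eW A U).hom ⁻¹ᵁ ⊤) (a • m))
      rw [smul_GM, KFlatLib.puSecLE_smul, appLE_algebraMap, smul_smul, Algebra.smul_def, map_mul, mul_comm])

theorem mU_tmul (u : U) (m : GM F) :
    mU F U (u ⊗ₜ m) = secMul F (eW A U) ((Scheme.ΓSpecIso (CommRingCat.of U)).inv u) m := rfl

theorem bijective_mU [F.IsQuasicoherent] : Function.Bijective (mU F U) := by
  let X := Spec (CommRingCat.of A)
  haveI : Coh.IsQCoh F := ‹F.IsQuasicoherent›
  let W := eW A U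
  let α : Γ(X, ⊤) →+* Γ(W.left, ⊤) := (W.hom.appLE ⊤ ⊤ le_top).hom
  letI : Algebra Γ(X, ⊤) Γ(W.left, ⊤) := α.toAlgebra
  letI : Module Γ(X, ⊤) (EtZarLib.sec F W) := Module.compHom _ (algebraMap Γ(X, ⊤) Γ(W.left, ⊤))
  haveI : IsScalarTower Γ(X, ⊤) Γ(W.left, ⊤) (EtZarLib.sec F W) := IsScalarTower.of_algebraMap_smul fun _ _ => rfl
  let ψ : Γ(F, ⊤) →ₗ[Γ(X, ⊤)] EtZarLib.sec F W :=
    { toFun := KFlatLib.puSecLE W.hom F (le_top : ⊤ ≤ W.hom ⁻¹ᵁ ⊤)
      map_add' := map_add _
      map_smul' := fun r m => KFlatLib.puSecLE_smul W.hom F _ r m }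
  haveI : IsAffine W.left := inferInstanceAs (IsAffine (Spec _))
  haveI : IsAffine X := inferInstanceAs (IsAffine (Spec _))
  have hb := @KFlatLib.isBaseChange_puSec W.left X W.hom F _ ⊤ (isAffineOpen_top X) ⊤ (isAffineOpen_top W.left)
    (le_top : ⊤ ≤ W.hom ⁻¹ᵁ ⊤) ‹Algebra Γ(X, ⊤) Γ(W.left, ⊤)› ‹Module Γ(X, ⊤) (EtZarLib.sec F W)› ‹_›
    (fun _ => rfl) ψ (fun _ => rfl)
  let iA := Scheme.ΓSpecIso (CommRingCat.of A)
  let inU : U →+* Γ(W.left, ⊤) := (Scheme.ΓSpecIso (CommRingCat.of U)).inv.hom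
  let outU : Γ(W.left, ⊤) →+* U := (Scheme.ΓSpecIso (CommRingCat.of U)).hom.hom
  have hUi : ∀ u, outU (inU u) = u := fun u => ConcreteCategory.congr_hom (Scheme.ΓSpecIso (CommRingCat.of U)).inv_hom_id u
  have hUh : ∀ w, inU (outU w) = w := fun w => ConcreteCategory.congr_hom (Scheme.ΓSpecIso (CommRingCat.of U)).hom_inv_id w
  have hA : ∀ r : Γ(X, ⊤), iA.inv (iA.hom r) = r := fun r => ConcreteCategory.congr_hom iA.hom_inv_id r
  have hA' : ∀ (r : Γ(X, ⊤)) (m : GM F), r • m = (iA.hom r : A) • m := fun r m => by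
    rw [smul_GM, show (Scheme.ΓSpecIso (CommRingCat.of A)).inv (iA.hom r) = r from hA r]
  let a : U ⊗[A] GM F →+ Γ(W.left, ⊤) ⊗[Γ(X, ⊤)] Γ(F, ⊤) := TensorProduct.liftAddHom
    { toFun := fun u =>
        { toFun := fun m => inU u ⊗ₜ[Γ(X, ⊤)] m
          map_zero' := tmul_zero _ _
          map_add' := fun m m' => tmul_add _ _ _ }
      map_zero' := by ext m; exact (congrArg (· ⊗ₜ[Γ(X, ⊤)] m) (map_zero inU)).trans (zero_tmul _ _)
      map_add' := fun u u' => by ext m; exact (congrArg (· ⊗ₜ[Γ(X, ⊤)] m) (map_add inU u u')).trans (add_tmul _ _ _) }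
    (fun r u m => by
      show inU (r • u) ⊗ₜ[Γ(X, ⊤)] m = inU u ⊗ₜ[Γ(X, ⊤)] (r • m)
      rw [smul_GM, ← TensorProduct.smul_tmul, Algebra.smul_def, map_mul, Algebra.smul_def]
      congr 2
      exact (appLE_algebraMap U r).symm)
  let b : Γ(W.left, ⊤) ⊗[Γ(X, ⊤)] Γ(F, ⊤) →+ U ⊗[A] GM F := TensorProduct.liftAddHom
    { toFun := fun w =>
        { toFun := fun m => outU w ⊗ₜ[A] (show GM F from m)
          map_zero' := tmul_zero _ _
          map_add' := fun m m' => tmul_add _ _ _ }
      map_zero' := by ext m; exact (congrArg (· ⊗ₜ[A] (show GM F from m)) (map_zero outU)).trans (zero_tmul _ _)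
      map_add' := fun u u' => by ext m; exact (congrArg (· ⊗ₜ[A] (show GM F from m)) (map_add outU u u')).trans (add_tmul _ _ _) }
    (fun r w m => by
      show outU (r • w) ⊗ₜ[A] (show GM F from m) = outU w ⊗ₜ[A] (show GM F from r • m)
      rw [show (show GM F from r • m) = (iA.hom r : A) • (show GM F from m) from hA' r m, ← TensorProduct.smul_tmul]
      congr 1
      show outU (α r * w) = (iA.hom r : A) • outU w
      rw [Algebra.smul_def, map_mul]
      congr 1
      conv_lhs => rw [← hA r]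
      exact (congrArg outU (appLE_algebraMap U (iA.hom r))).trans (hUi _))
  have hba : ∀ z, b (a z) = z := fun z => by
    induction z using TensorProduct.induction_on with
    | zero => rw [map_zero, map_zero]
    | tmul u m =>
      show outU (inU u) ⊗ₜ[A] m = u ⊗ₜ m
      rw [hUi]
    | add x y hx hy => rw [map_add, map_add, hx, hy]
  have hab : ∀ z, a (b z) = z := fun z => by
    induction z using TensorProduct.induction_on with
    | zero => rw [map_zero, map_zero]
    | tmul w m =>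
      show inU (outU w) ⊗ₜ[Γ(X, ⊤)] m = w ⊗ₜ m
      rw [hUh]
    | add x y hx hy => rw [map_add, map_add, hx, hy]
  have heq : ⇑(mU F U) = hb.equiv ∘ a := funext fun z => by
    induction z using TensorProduct.induction_on with
    | zero => rw [map_zero, Function.comp_apply, map_zero, map_zero]
    | tmul u m => exact (hb.equiv_tmul _ _).symm
    | add x y hx hy => rw [map_add, hx, hy, Function.comp_apply, Function.comp_apply, Function.comp_apply, map_add, map_add]
  rw [heq]
  exact hb.equiv.bijective.comp ⟨Function.LeftInverse.injective hba, Function.RightInverse.surjective hab⟩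

variable {U} {U' : Type u} [CommRing U'] [Algebra A U'] [Algebra.Etale A U']

theorem rs_puSecLE {X : Scheme.{u}} (F : X.Modules) {W W' : X.Etale} (g : W' ⟶ W) (m : Γ(F, ⊤)) :
    EtZarLib.rs F g (KFlatLib.puSecLE W.hom F (le_top : ⊤ ≤ W.hom ⁻¹ᵁ ⊤) m) =
      KFlatLib.puSecLE W'.hom F (le_top : ⊤ ≤ W'.hom ⁻¹ᵁ ⊤) m :=
  (EtZarLib.rsL_top F g _).symm.trans ((EtZarLib.rsL_apply F g _ _).trans
    (EtZarLib.step2a_puSecLE F g m le_top le_top))

theorem rs_secMul {X : Scheme.{u}} (F : X.Modules) {W W' : X.Etale} (g : W' ⟶ W) (r : Γ(W.left, ⊤))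
    (m : Γ(F, ⊤)) : EtZarLib.rs F g (secMul F W r m) = secMul F W' (GaAux.res g r) m := by
  rw [secMul, secMul, EtZarLib.rs_smul, rs_puSecLE]

theorem res_eWmap (ψ : U →ₐ[A] U') (u : U) :
    GaAux.res (eWmap ψ) ((Scheme.ΓSpecIso (CommRingCat.of U)).inv u) =
      (Scheme.ΓSpecIso (CommRingCat.of U')).inv (ψ u) :=
  (ConcreteCategory.congr_hom (Scheme.ΓSpecIso_inv_naturality (CommRingCat.ofHom ψ.toRingHom)) u).symm

set_option maxHeartbeats 300000 in
theorem rs_mU_tmul (ψ : U →ₐ[A] U') (u : U) (m : GM F) :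
    EtZarLib.rs F (eWmap ψ) (mU F U (u ⊗ₜ m)) = mU F U' (ψ u ⊗ₜ m) :=
  ((congrArg (EtZarLib.rs F (eWmap ψ)) (mU_tmul F U u m)).trans
    ((rs_secMul F (eWmap ψ) _ m).trans (congrArg (fun t => secMul F (eW A U') t m) (res_eWmap ψ u)))).trans
    (mU_tmul F U' (ψ u) m).symm

set_option maxHeartbeats 300000 in
theorem rs_mU (ψ : U →ₐ[A] U') (z : U ⊗[A] GM F) :
    EtZarLib.rs F (eWmap ψ) (mU F U z) = mU F U' (TensorProduct.map ψ.toLinearMap LinearMap.id z) := by
  induction z using TensorProduct.induction_on with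
  | zero => rw [map_zero, map_zero, map_zero, map_zero]
  | add x y hx hy => rw [map_add, map_add, hx, hy, map_add, map_add]
  | tmul u m => exact rs_mU_tmul F ψ u m

end Etale

variable {F} [F.IsQuasicoherent] {G : EtCoh.Ab (Spec (CommRingCat.of A))} (hG : EtAssoc.IsAssoc F G)

/-- The identification of sections. -/
def aG (W : (Spec (CommRingCat.of A)).Etale) : ToType (G.obj.obj (op W)) ≃+ EtZarLib.sec F W :=
  (hG.choose W).trans AddEquiv.ulift

theorem aG_nat {W W' : (Spec (CommRingCat.of A)).Etale} (g : W' ⟶ W) (s : ToType (G.obj.obj (op W))) :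
    aG hG W' (G.obj.map g.op s) = EtZarLib.rs F g (aG hG W s) := hG.choose_spec _ _ g s

section El

variable {U : Type u} [CommRing U] [Algebra A U] [Algebra.Etale A U] {S : Type u} [CommRing S] [Algebra A S]

/-- The class attached to an element of the base change to an étale algebra mapping to `S`. -/
def el (φ : U →ₐ[A] S) : U ⊗[A] GM F →+ E0 G (oA S) :=
  (e0map G (oAmap φ)).comp ((AddMonoidHom.mk' (secE G (eW A U)) (secE_add G _)).comp
    ((aG hG (eW A U)).symm.toAddMonoidHom.comp (mU F U)))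

theorem el_apply (φ : U →ₐ[A] S) (z : U ⊗[A] GM F) :
    el hG φ z = e0map G (oAmap φ) (secE G (eW A U) ((aG hG (eW A U)).symm (mU F U z))) := rfl

theorem el_natural {U' : Type u} [CommRing U'] [Algebra A U'] [Algebra.Etale A U'] (ψ : U →ₐ[A] U')
    (φ' : U' →ₐ[A] S) (φ : U →ₐ[A] S) (h : φ'.comp ψ = φ) (z : U ⊗[A] GM F) :
    el hG φ' (TensorProduct.map ψ.toLinearMap LinearMap.id z) = el hG φ z := by
  rw [el_apply, el_apply, ← rs_mU]
  have h1 : (aG hG (eW A U')).symm (EtZarLib.rs F (eWmap ψ) (mU F U z)) =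
      G.obj.map (eWmap ψ).op ((aG hG (eW A U)).symm (mU F U z)) := by
    apply (aG hG (eW A U')).injective
    rw [AddEquiv.apply_symm_apply, aG_nat, AddEquiv.apply_symm_apply]
  rw [h1, ← secE_natural]
  refine (e0map_comp G _ _ _).trans ?_
  rw [← h, ← oAmap_comp]
  rfl

theorem el_map {S' : Type u} [CommRing S'] [Algebra A S'] (r : S →ₐ[A] S') (φ : U →ₐ[A] S) (z : U ⊗[A] GM F) :
    e0map G (oAmap r) (el hG φ z) = el hG (r.comp φ) z := by
  rw [el_apply, el_apply, e0map_comp, oAmap_comp]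

end El

/-- An algebra exhausted by étale algebras. -/
structure IsInd (S : Type u) [CommRing S] [Algebra A S] : Prop where
  surj : ∀ x : S, ∃ (U : Type u) (_ : CommRing U) (_ : Algebra A U) (_ : Algebra.Etale A U) (φ : U →ₐ[A] S) (u : U),
    φ u = x
  ker : ∀ (U : Type u) [CommRing U] [Algebra A U] [Algebra.Etale A U] (φ : U →ₐ[A] S) (u : U), φ u = 0 →
    ∃ (U' : Type u) (_ : CommRing U') (_ : Algebra A U') (_ : Algebra.Etale A U') (ψ : U →ₐ[A] U') (φ' : U' →ₐ[A] S),
      φ'.comp ψ = φ ∧ ψ u = 0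

theorem exists_join {S : Type u} [CommRing S] [Algebra A S] {U V : Type u} [CommRing U] [Algebra A U]
    [Algebra.Etale A U] [CommRing V] [Algebra A V] [Algebra.Etale A V] (φ : U →ₐ[A] S) (χ : V →ₐ[A] S) :
    ∃ (W : Type u) (_ : CommRing W) (_ : Algebra A W) (_ : Algebra.Etale A W) (a : U →ₐ[A] W) (b : V →ₐ[A] W)
      (ω : W →ₐ[A] S), ω.comp a = φ ∧ ω.comp b = χ := by
  haveI : Algebra.Etale A (U ⊗[A] V) := Algebra.Etale.comp A U (U ⊗[A] V)
  exact ⟨U ⊗[A] V, inferInstance, inferInstance, inferInstance, Algebra.TensorProduct.includeLeft,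
    Algebra.TensorProduct.includeRight, Algebra.TensorProduct.lift φ χ fun _ _ => Commute.all _ _,
    AlgHom.ext fun x => by simp, AlgHom.ext fun x => by simp⟩

section Psi

variable {S : Type u} [CommRing S] [Algebra A S] (hS : IsInd (A := A) S)
include hS

theorem el_eq {U V : Type u} [CommRing U] [Algebra A U] [Algebra.Etale A U] [CommRing V] [Algebra A V]
    [Algebra.Etale A V] (φ : U →ₐ[A] S) (χ : V →ₐ[A] S) (u : U) (v : V) (h : φ u = χ v) (m : GM F) :
    el hG φ (u ⊗ₜ m) = el hG χ (v ⊗ₜ m) := by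
  obtain ⟨W, _, _, _, a, b, ω, ha, hb⟩ := exists_join φ χ
  obtain ⟨W', _, _, _, ψ, ω', hψ, hz⟩ := hS.ker W ω (a u - b v) (by
    rw [map_sub, ← AlgHom.comp_apply, ha, ← AlgHom.comp_apply, hb, h, sub_self])
  rw [← el_natural hG (ψ.comp a) ω' φ (by rw [← AlgHom.comp_assoc, hψ, ha]),
    ← el_natural hG (ψ.comp b) ω' χ (by rw [← AlgHom.comp_assoc, hψ, hb]), TensorProduct.map_tmul, TensorProduct.map_tmul]
  rw [map_sub, sub_eq_zero] at hz
  exact congrArg (fun t => el hG ω' (t ⊗ₜ m)) hz

theorem exists_psi :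
    ∃ Ψ : S ⊗[A] GM F →+ E0 G (oA S), ∀ (U : Type u) [CommRing U] [Algebra A U] [Algebra.Etale A U] (φ : U →ₐ[A] S)
      (z : U ⊗[A] GM F), Ψ (TensorProduct.map φ.toLinearMap LinearMap.id z) = el hG φ z := by
  choose Us i1 i2 i3 φs us hus using hS.surj
  have key : ∀ (U : Type u) [CommRing U] [Algebra A U] [Algebra.Etale A U] (φ : U →ₐ[A] S) (u : U) (x : S)
      (m : GM F), φ u = x → el hG (φs x) (us x ⊗ₜ m) = el hG φ (u ⊗ₜ m) := fun U _ _ _ φ u x m h =>
    el_eq hG hS (φs x) φ (us x) u ((hus x).trans h.symm) m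
  let f : S →+ GM F →+ E0 G (oA S) := AddMonoidHom.mk'
    (fun x => AddMonoidHom.mk' (fun m => el hG (φs x) (us x ⊗ₜ m)) fun m m' => by rw [tmul_add, map_add])
    (fun x y => AddMonoidHom.ext fun m => by
      obtain ⟨W, _, _, _, a, b, ω, ha, hb⟩ := exists_join (φs x) (φs y)
      show el hG (φs (x + y)) (us (x + y) ⊗ₜ m) = el hG (φs x) (us x ⊗ₜ m) + el hG (φs y) (us y ⊗ₜ m)
      have hx : ω (a (us x)) = x := (AlgHom.congr_fun ha _).trans (hus x)
      have hy : ω (b (us y)) = y := (AlgHom.congr_fun hb _).trans (hus y)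
      rw [key W ω (a (us x) + b (us y)) (x + y) m (by rw [map_add, hx, hy]), key W ω _ x m hx, key W ω _ y m hy,
        add_tmul, map_add])
  have hf : ∀ (r : A) (x : S) (m : GM F), f (r • x) m = f x (r • m) := fun r x m => by
    show el hG (φs (r • x)) (us (r • x) ⊗ₜ m) = el hG (φs x) (us x ⊗ₜ (r • m))
    rw [key (Us x) (φs x) (r • us x) (r • x) m (by rw [map_smul, hus]), TensorProduct.smul_tmul]
  refine ⟨TensorProduct.liftAddHom f hf, fun U _ _ _ φ z => ?_⟩
  induction z using TensorProduct.induction_on with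
  | zero => simp only [map_zero]
  | add x y hx hy => simp only [map_add, hx, hy]
  | tmul u m =>
    rw [TensorProduct.map_tmul, TensorProduct.liftAddHom_tmul]
    exact key U φ u _ m rfl

/-- The comparison map. -/
def psi0 : S ⊗[A] GM F →+ E0 G (oA S) := (exists_psi hG hS).choose

theorem psi0_map {U : Type u} [CommRing U] [Algebra A U] [Algebra.Etale A U] (φ : U →ₐ[A] S) (z : U ⊗[A] GM F) :
    psi0 hG hS (TensorProduct.map φ.toLinearMap LinearMap.id z) = el hG φ z :=
  (exists_psi hG hS).choose_spec U φ z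

theorem exists_rep (w : S ⊗[A] GM F) :
    ∃ (U : Type u) (_ : CommRing U) (_ : Algebra A U) (_ : Algebra.Etale A U) (φ : U →ₐ[A] S) (z : U ⊗[A] GM F),
      TensorProduct.map φ.toLinearMap LinearMap.id z = w := by
  induction w using TensorProduct.induction_on with
  | zero =>
    obtain ⟨U, _, _, _, φ, -, -⟩ := hS.surj 0
    exact ⟨U, inferInstance, inferInstance, inferInstance, φ, 0, map_zero _⟩
  | tmul x m =>
    obtain ⟨U, _, _, _, φ, u, rfl⟩ := hS.surj x
    exact ⟨U, inferInstance, inferInstance, inferInstance, φ, u ⊗ₜ m, rfl⟩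
  | add x y hx hy =>
    obtain ⟨U, _, _, _, φ, z, rfl⟩ := hx
    obtain ⟨V, _, _, _, χ, z', rfl⟩ := hy
    obtain ⟨W, _, _, _, a, b, ω, ha, hb⟩ := exists_join φ χ
    refine ⟨W, inferInstance, inferInstance, inferInstance, ω,
      TensorProduct.map a.toLinearMap LinearMap.id z + TensorProduct.map b.toLinearMap LinearMap.id z', ?_⟩
    rw [map_add, TensorProduct.map_map, TensorProduct.map_map, LinearMap.id_comp, ← AlgHom.comp_toLinearMap,
      ← AlgHom.comp_toLinearMap, ha, hb]

theorem psi0_natural {S' : Type u} [CommRing S'] [Algebra A S'] (hS' : IsInd (A := A) S') (r : S →ₐ[A] S')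
    (w : S ⊗[A] GM F) :
    e0map G (oAmap r) (psi0 hG hS w) = psi0 hG hS' (TensorProduct.map r.toLinearMap LinearMap.id w) := by
  obtain ⟨U, _, _, _, φ, z, rfl⟩ := exists_rep hS w
  rw [psi0_map, el_map, TensorProduct.map_map, LinearMap.id_comp, ← AlgHom.comp_toLinearMap, psi0_map]

theorem psi0_bijective
    (h1 : ∀ ξ : E0 G (oA S), ∃ (U : Type u) (_ : CommRing U) (_ : Algebra A U) (_ : Algebra.Etale A U)
      (φ : U →ₐ[A] S) (s : ToType (G.obj.obj (op (eW A U)))), e0map G (oAmap φ) (secE G (eW A U) s) = ξ)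
    (h2 : ∀ (U : Type u) [CommRing U] [Algebra A U] [Algebra.Etale A U] (φ : U →ₐ[A] S)
      (s : ToType (G.obj.obj (op (eW A U)))), e0map G (oAmap φ) (secE G (eW A U) s) = 0 →
      ∃ (U' : Type u) (_ : CommRing U') (_ : Algebra A U') (_ : Algebra.Etale A U') (ψ : U →ₐ[A] U')
        (φ' : U' →ₐ[A] S), φ'.comp ψ = φ ∧ G.obj.map (eWmap ψ).op s = 0) :
    Function.Bijective (psi0 hG hS) := by
  refine ⟨(injective_iff_map_eq_zero _).2 fun w hw => ?_, fun ξ => ?_⟩
  · obtain ⟨U, _, _, _, φ, z, rfl⟩ := exists_rep hS w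
    rw [psi0_map, el_apply] at hw
    obtain ⟨U', _, _, _, ψ, φ', hφ, hs⟩ := h2 U φ _ hw
    have h3 := congrArg (aG hG (eW A U')) hs
    rw [aG_nat, AddEquiv.apply_symm_apply, rs_mU, map_zero] at h3
    have h4 := (bijective_mU F U').1 (h3.trans (map_zero _).symm)
    have h5 := congrArg (TensorProduct.map φ'.toLinearMap LinearMap.id) h4
    rw [TensorProduct.map_map, LinearMap.id_comp, ← AlgHom.comp_toLinearMap, hφ, map_zero] at h5
    exact h5
  · obtain ⟨U, _, _, _, φ, s, rfl⟩ := h1 ξ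
    obtain ⟨z, hz⟩ := (bijective_mU F U).2 (aG hG (eW A U) s)
    refine ⟨TensorProduct.map φ.toLinearMap LinearMap.id z, ?_⟩
    rw [psi0_map, el_apply, hz, AddEquiv.symm_apply_apply]

end Psi

end HensVanLib
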