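import Groth.Agent.HensVanLib.Colim
import Groth.Agent.HensGlueLib.Sections
import Groth.Agent.PairHensLib.Flat

/-!
# A basic open of the closed subscheme inside the spectrum of the henselized localization
-/

set_option autoImplicit false
set_option linter.unusedSectionVars false
set_option linter.style.haveILetI false
set_option backward.isDefEq.respectTransparency false
set_option backward.isDefEq.respectTransparency.types false
set_option maxHeartbeats 1000000
set_option synthInstance.maxHeartbeats 400000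

universe u

open CategoryTheory CategoryTheory.Limits AlgebraicGeometry Opposite TopologicalSpace HenselBranchLib
open Groth.Agent

noncomputable section

namespace HensVanLib

theorem henselianRing_bot (R : Type u) [CommRing R] : HenselianRing R (⊥ : Ideal R) where
  jac := bot_le
  is_henselian f _ a₀ h₁ _ := ⟨a₀, by simpa using h₁, by simp⟩

variable {A : Type u} [CommRing A] {I : Ideal A} [HenselianRing A I] {Z : LocallyRingedSpace.{u}}
  {π : Z ⟶ HensSch.specLRS A} (hZ : HensSch.IsSph A I Z π)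

/-- The closed subscheme. -/
abbrev Yc (I : Ideal A) : Scheme.{u} := Spec (CommRingCat.of (A ⧸ I))

/-- Its inclusion. -/
abbrev iY (I : Ideal A) : Yc I ⟶ Spec (CommRingCat.of A) := Spec.map (CommRingCat.ofHom (Ideal.Quotient.mk I))

/-- Its basic opens. -/
abbrev Ub (I : Ideal A) (f : A) : (Yc I).Opens := iY I ⁻¹ᵁ (PrimeSpectrum.basicOpen f)

/-- As étale objects. -/
abbrev zU (I : Ideal A) (U : (Yc I).Opens) : (Yc I).Etale := (EtZar.zarToEt (Yc I)).obj U

/-- The sections of the henselization. -/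
abbrev Sf (π : Z ⟶ HensSch.specLRS A) (f : A) : Type u := HensGlueLib.Sec π (HensSch.dOpen π f)

/-- The ring map to functions on an open of the closed subscheme. -/
def γ (U : (Yc I).Opens) : A →+* Γ((U : Scheme.{u}), ⊤) :=
  (U.ι ≫ iY I).appTop.hom.comp (Scheme.ΓSpecIso (CommRingCat.of A)).inv.hom

theorem map_γ_bot (U : (Yc I).Opens) : I.map (γ U) = ⊥ := by
  rw [Ideal.map_eq_bot_iff_le_ker]
  intro a ha
  show (U.ι ≫ iY I).appTop ((Scheme.ΓSpecIso (CommRingCat.of A)).inv a) = 0
  rw [Scheme.Hom.comp_appTop, CommRingCat.comp_apply]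
  rw [show (iY I).appTop ((Scheme.ΓSpecIso (CommRingCat.of A)).inv a) =
    (Scheme.ΓSpecIso (CommRingCat.of (A ⧸ I))).inv (Ideal.Quotient.mk I a) from
      (ConcreteCategory.congr_hom (Scheme.ΓSpecIso_inv_naturality (CommRingCat.ofHom (Ideal.Quotient.mk I))) a).symm,
    Ideal.Quotient.eq_zero_iff_mem.2 ha, map_zero, map_zero]

theorem toSpecΓ_γ (U : (Yc I).Opens) :
    (U : Scheme.{u}).toSpecΓ ≫ Spec.map (CommRingCat.ofHom (γ U)) = U.ι ≫ iY I := by
  rw [show CommRingCat.ofHom (γ U) = (Scheme.ΓSpecIso (CommRingCat.of A)).inv ≫ (U.ι ≫ iY I).appTop from rfl,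
    Spec.map_comp, ← Category.assoc, ← Scheme.toSpecΓ_naturality, Category.assoc]
  conv_rhs => rw [← Category.comp_id (U.ι ≫ iY I)]
  refine congrArg ((U.ι ≫ iY I) ≫ ·) ?_
  rw [← SpecMap_ΓSpecIso_hom (CommRingCat.of A), ← Spec.map_comp, Iso.inv_hom_id, Spec.map_id]

theorem isUnit_γ (f : A) : IsUnit (γ (Ub I f) f) := by
  apply RingedSpace.isUnit_of_isUnit_germ
  intro x hx
  refine (Scheme.mem_basicOpen (Ub I f : Scheme.{u}) (γ (Ub I f) f) x hx).1 ?_
  show x ∈ (Ub I f : Scheme.{u}).basicOpen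
    (((Ub I f).ι ≫ iY I).appTop ((Scheme.ΓSpecIso (CommRingCat.of A)).inv f))
  rw [← Scheme.preimage_basicOpen_top, basicOpen_eq_of_affine]
  exact x.2

include hZ

theorem exists_χ (f : A) : ∃! χ : Sf π f →+* Γ((Ub I f : Scheme.{u}), ⊤),
    χ.comp (algebraMap A (Sf π f)) = γ (Ub I f) :=
  (hZ.2.2 f).2.2 _ ⊥ (γ (Ub I f)) (henselianRing_bot _) (map_γ_bot _).le (isUnit_γ f)

/-- The inclusion of the basic open into the spectrum of the henselization. -/
def jf (f : A) : oY (iY I) (zU I (Ub I f)) ⟶ oA (A := A) (Sf π f) :=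
  Over.homMk ((Ub I f : Scheme.{u}).toSpecΓ ≫ Spec.map (CommRingCat.ofHom (exists_χ hZ f).choose)) (by
    show ((Ub I f : Scheme.{u}).toSpecΓ ≫ Spec.map (CommRingCat.ofHom (exists_χ hZ f).choose)) ≫
      Spec.map (CommRingCat.ofHom (algebraMap A (Sf π f))) = (Ub I f).ι ≫ iY I
    rw [Category.assoc, ← Spec.map_comp, ← toSpecΓ_γ]
    exact congrArg (fun r => (Ub I f : Scheme.{u}).toSpecΓ ≫ Spec.map r)
      (CommRingCat.hom_ext (exists_χ hZ f).choose_spec.1))

theorem jf_natural {f g : A} (h : HensSch.dOpen π g ≤ HensSch.dOpen π f) (h' : Ub I g ≤ Ub I f) :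
    oYmap (iY I) ((EtZar.zarToEt (Yc I)).map (homOfLE h')) ≫ jf hZ f = jf hZ g ≫ oAmap (HensGlueLib.res π h) := by
  refine Over.OverMorphism.ext ?_
  show (Yc I).homOfLE h' ≫ (Ub I f : Scheme.{u}).toSpecΓ ≫ Spec.map (CommRingCat.ofHom (exists_χ hZ f).choose) =
    ((Ub I g : Scheme.{u}).toSpecΓ ≫ Spec.map (CommRingCat.ofHom (exists_χ hZ g).choose)) ≫
      Spec.map (CommRingCat.ofHom (HensGlueLib.res π h).toRingHom)
  rw [← Category.assoc, Scheme.toSpecΓ_naturality, Category.assoc, Category.assoc, ← Spec.map_comp, ← Spec.map_comp]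
  refine congrArg (fun r => (Ub I g : Scheme.{u}).toSpecΓ ≫ Spec.map r) (CommRingCat.hom_ext ?_)
  let ρ : Γ((Ub I f : Scheme.{u}), ⊤) →+* Γ((Ub I g : Scheme.{u}), ⊤) := ((Yc I).homOfLE h').appTop.hom
  have hγ : ρ.comp (γ (Ub I f)) = γ (Ub I g) := by
    have : (Yc I).homOfLE h' ≫ (Ub I f).ι ≫ iY I = (Ub I g).ι ≫ iY I := by rw [← Category.assoc, Scheme.homOfLE_ι]
    show ((((Yc I).homOfLE h').appTop.hom).comp ((Ub I f).ι ≫ iY I).appTop.hom).comp _ = _
    rw [← CommRingCat.hom_comp, ← Scheme.Hom.comp_appTop, this]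
    rfl
  have hu : IsUnit (γ (Ub I g) f) := by
    rw [← hγ]
    exact (isUnit_γ f).map ρ
  refine ((hZ.2.2 f).2.2 _ ⊥ (γ (Ub I g)) (henselianRing_bot _) (map_γ_bot _).le hu).unique ?_ ?_
  · show (ρ.comp (exists_χ hZ f).choose).comp (algebraMap A (Sf π f)) = _
    rw [RingHom.comp_assoc, (exists_χ hZ f).choose_spec.1, hγ]
  · show ((exists_χ hZ g).choose.comp (HensGlueLib.res π h).toRingHom).comp (algebraMap A (Sf π f)) = _
    rw [RingHom.comp_assoc, AlgHom.toRingHom_eq_coe, AlgHom.comp_algebraMap, (exists_χ hZ g).choose_spec.1]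

theorem isPairHenselization_Sf (f : A) [Algebra (Localization.Away f) (Sf π f)]
    [IsScalarTower A (Localization.Away f) (Sf π f)] :
    Hens2.IsPairHenselization (Localization.Away f) (I.map (algebraMap A (Localization.Away f))) (Sf π f) :=
  HensSchFFLib.isPairHenselization_away (B := Sf π f) (hZ.2.2 f) (IsScalarTower.algebraMap_eq A (Localization.Away f) (Sf π f)).symm

theorem isInd_Sf (f : A) : IsInd (A := A) (Sf π f) := by
  letI : Algebra (Localization.Away f) (Sf π f) := (IsLocalization.Away.lift f (g := algebraMap A (Sf π f)) (hZ.2.2 f).1).toAlgebra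
  haveI : IsScalarTower A (Localization.Away f) (Sf π f) :=
    IsScalarTower.of_algebraMap_eq fun x => (IsLocalization.Away.lift_eq f (hZ.2.2 f).1 x).symm
  exact isInd (isPairHenselization_Sf hZ f)

variable (G : EtCoh.Ab (Spec (CommRingCat.of A)))

theorem bijective_jf (f : A) : Function.Bijective (e0map G (jf hZ f)) := by
  let S := Sf π f
  let L := Localization.Away f
  letI : Algebra L S := (IsLocalization.Away.lift f (g := algebraMap A S) (hZ.2.2 f).1).toAlgebra
  haveI : IsScalarTower A L S := IsScalarTower.of_algebraMap_eq fun x => (IsLocalization.Away.lift_eq f (hZ.2.2 f).1 x).symm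
  have hH : Hens2.IsPairHenselization L (I.map (algebraMap A L)) S := isPairHenselization_Sf hZ f
  let J : Ideal S := I.map (algebraMap A S)
  haveI : HenselianRing S J := (hZ.2.2 f).2.1
  let q := Spec.map (CommRingCat.ofHom (Ideal.Quotient.mk J))
  let g := q ≫ Spec.map (CommRingCat.ofHom (algebraMap A S))
  let qh : Over.mk g ⟶ oA (A := A) S := Over.homMk q rfl
  -- the map to the special fibre
  let χ := (exists_χ hZ f).choose
  have hχJ : ∀ x ∈ J, χ x = 0 := by
    intro x hx
    have : J.map χ = ⊥ := by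
      rw [Ideal.map_map, (exists_χ hZ f).choose_spec.1, map_γ_bot]
    have h := Ideal.mem_map_of_mem χ hx
    rwa [this, Ideal.mem_bot] at h
  let a : (Ub I f : Scheme.{u}) ⟶ Spec (CommRingCat.of (S ⧸ J)) :=
    (Ub I f : Scheme.{u}).toSpecΓ ≫ Spec.map (CommRingCat.ofHom (Ideal.Quotient.lift J χ hχJ))
  have haq : a ≫ q = (jf hZ f).left := by
    show ((Ub I f : Scheme.{u}).toSpecΓ ≫ _) ≫ _ = (Ub I f : Scheme.{u}).toSpecΓ ≫ _
    rw [Category.assoc, ← Spec.map_comp]
    exact congrArg (fun r => (Ub I f : Scheme.{u}).toSpecΓ ≫ Spec.map r)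
      (CommRingCat.hom_ext (Ideal.Quotient.lift_comp_mk J χ hχJ))
  have hag : a ≫ g = (Ub I f).ι ≫ iY I := by
    show a ≫ q ≫ _ = _
    rw [← Category.assoc, haq]
    exact Over.w (jf hZ f)
  -- the maps to the base are monomorphisms
  haveI : IsClosedImmersion (iY I) := IsClosedImmersion.spec_of_surjective _ Ideal.Quotient.mk_surjective
  haveI hmU : Mono ((Ub I f).ι ≫ iY I) := mono_comp _ _
  haveI hmg : Mono g := by
    let η : CommRingCat.of A ⟶ CommRingCat.of (S ⧸ J) :=
      CommRingCat.ofHom ((Ideal.Quotient.mk J).comp (algebraMap A S))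
    have hg : g = Spec.map η := (Spec.map_comp _ _).symm
    have hb := PairHensLib.quotientMap_bijective hH 1
    let ρ : L →+* S ⧸ J := (Ideal.Quotient.mk J).comp (algebraMap L S)
    have hρ : Function.Surjective ρ := fun z => by
      obtain ⟨s, rfl⟩ := Ideal.Quotient.mk_surjective z
      obtain ⟨l, hl⟩ := hb.2 (Ideal.Quotient.mk _ s)
      obtain ⟨l, rfl⟩ := Ideal.Quotient.mk_surjective l
      rw [Ideal.quotientMap_mk, Ideal.Quotient.eq] at hl
      refine ⟨l, Ideal.Quotient.eq.2 ?_⟩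
      rwa [pow_one, Ideal.map_map, ← IsScalarTower.algebraMap_eq] at hl
    haveI : Mono (Spec.map (CommRingCat.ofHom ρ)) := by
      haveI : IsClosedImmersion (Spec.map (CommRingCat.ofHom ρ)) := IsClosedImmersion.spec_of_surjective _ hρ
      infer_instance
    have hρg : Spec.map (CommRingCat.ofHom ρ) ≫ Spec.map (CommRingCat.ofHom (algebraMap A L)) = g := by
      rw [hg, ← Spec.map_comp]
      exact congrArg Spec.map (CommRingCat.hom_ext (RingHom.ext fun x => congrArg (Ideal.Quotient.mk J)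
        (IsScalarTower.algebraMap_apply A L S x).symm))
    rw [← hρg]
    haveI : IsOpenImmersion (Spec.map (CommRingCat.ofHom (algebraMap A L))) := IsOpenImmersion.of_isLocalization f
    exact mono_comp _ _
  -- the inverse
  have hI : I ≤ RingHom.ker ((Ideal.Quotient.mk J).comp (algebraMap A S)) := fun x hx =>
    Ideal.Quotient.eq_zero_iff_mem.2 (Ideal.mem_map_of_mem _ hx)
  let b₀ : Spec (CommRingCat.of (S ⧸ J)) ⟶ Yc I :=
    Spec.map (CommRingCat.ofHom (Ideal.Quotient.lift I ((Ideal.Quotient.mk J).comp (algebraMap A S)) hI))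
  have hb₀ : b₀ ≫ iY I = g := by
    show b₀ ≫ iY I = q ≫ _
    rw [← Spec.map_comp, ← Spec.map_comp]
    exact congrArg Spec.map (CommRingCat.hom_ext (Ideal.Quotient.lift_comp_mk I _ hI))
  have hr : Set.range b₀.base ⊆ Set.range (Ub I f).ι.base := by
    rw [Scheme.Opens.range_ι]
    rintro _ ⟨x, rfl⟩
    show (iY I).base (b₀.base x) ∈ PrimeSpectrum.basicOpen f
    rw [← Scheme.Hom.comp_apply, hb₀]
    show f ∉ (PrimeSpectrum.comap (algebraMap A S) (q.base x)).asIdeal
    exact fun hf => (q.base x : PrimeSpectrum S).isPrime.ne_top (Ideal.eq_top_of_isUnit_mem _ hf (hZ.2.2 f).1)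
  let b := IsOpenImmersion.lift (Ub I f).ι b₀ hr
  have hbg : b ≫ (Ub I f).ι ≫ iY I = g := by
    rw [← Category.assoc, IsOpenImmersion.lift_fac, hb₀]
  haveI : IsIso a := ⟨b, (cancel_mono ((Ub I f).ι ≫ iY I)).1 (by rw [Category.assoc, hbg, hag, Category.id_comp]),
    (cancel_mono g).1 (by rw [Category.assoc, hag, hbg, Category.id_comp])⟩
  let ah : oY (iY I) (zU I (Ub I f)) ⟶ Over.mk g := Over.homMk a hag
  haveI : IsIso ah := by
    haveI : IsIso ((Over.forget _).map ah) := ‹IsIso a›
    exact isIso_of_reflects_iso ah (Over.forget _)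
  rw [show jf hZ f = ah ≫ qh from Over.OverMorphism.ext haq.symm]
  rw [show ⇑(e0map G (ah ≫ qh)) = e0map G ah ∘ e0map G qh from funext fun e => (e0map_comp G ah qh e).symm]
  exact (bijective_e0map G ah).comp (bijective_e0map_quotient G J (Spec.map (CommRingCat.ofHom (algebraMap A S))) rfl)

end HensVanLib
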