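import Groth.Agent.HensVanLib.Jmap
import Groth.Agent.HensGlueLib.Global
import Groth.Agent.EtZarLib.Nat
import Groth.Agent.CohTopLib.Basic
import Mathlib.Topology.Sheaves.SheafCondition.Sites

/-!
# Vanishing of cohomology on affine henselian spectra in positive characteristic: comparison of sheaves
-/

set_option autoImplicit false
set_option linter.unusedSectionVars false
set_option linter.style.haveILetI false
set_option backward.isDefEq.respectTransparency false
set_option backward.isDefEq.respectTransparency.types false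
set_option maxHeartbeats 1000000
set_option synthInstance.maxHeartbeats 400000

universe u

open CategoryTheory CategoryTheory.Limits AlgebraicGeometry Opposite TopologicalSpace
open Groth.Agent
open scoped TensorProduct

noncomputable section

namespace HensVanLib

variable {A : Type u} [CommRing A] {I : Ideal A} [HenselianRing A I] {Z : LocallyRingedSpace.{u}}
  {π : Z ⟶ HensSch.specLRS A} (hZ : HensSch.IsSph A I Z π)
include hZ

theorem range_iY : Set.range (iY I).base = Set.range π.base := by
  rw [hZ.2.1]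
  show Set.range (PrimeSpectrum.comap (Ideal.Quotient.mk I)) = _
  rw [range_comap_of_surjective _ _ Ideal.Quotient.mk_surjective, Ideal.mk_ker]

theorem exists_point (z : Z) : ∃ y : Yc I, (iY I).base y = π.base z := by
  have h : (π.base z : Spec (CommRingCat.of A)) ∈ Set.range (iY I).base := by
    rw [range_iY hZ]
    exact ⟨z, rfl⟩
  exact h

/-- The point of the closed subscheme. -/
def hpt (z : Z) : Yc I := (exists_point hZ z).choose

theorem iY_hpt (z : Z) : (iY I).base (hpt hZ z) = π.base z := (exists_point hZ z).choose_spec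

theorem isClosedEmbedding_hpt : Topology.IsClosedEmbedding (hpt hZ) := by
  haveI : IsClosedImmersion (iY I) := IsClosedImmersion.spec_of_surjective _ Ideal.Quotient.mk_surjective
  have he : Topology.IsEmbedding (iY I).base := (Scheme.Hom.isClosedEmbedding (iY I)).isEmbedding
  have hc : Topology.IsEmbedding (fun z => (iY I).base (hpt hZ z)) := by
    rw [show (fun z => (iY I).base (hpt hZ z)) = π.base from funext (iY_hpt hZ)]
    exact hZ.1
  have hemb : Topology.IsEmbedding (hpt hZ) := by
    refine Topology.IsEmbedding.of_comp ?_ he.continuous hc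
    exact he.isInducing.continuous_iff.2 hc.continuous
  refine ⟨hemb, ?_⟩
  have : Set.range (hpt hZ) = Set.univ := Set.eq_univ_of_forall fun y => by
    obtain ⟨z, hz⟩ : (iY I).base y ∈ Set.range π.base := range_iY hZ ▸ ⟨y, rfl⟩
    exact ⟨z, he.injective ((iY_hpt hZ z).trans hz)⟩
  rw [this]
  exact isClosed_univ

/-- The homeomorphism to the closed subscheme. -/
def hTop : Z.toTopCat ⟶ (Yc I).toTopCat :=
  TopCat.ofHom ⟨hpt hZ, (isClosedEmbedding_hpt hZ).continuous⟩

theorem preimage_Ub (f : A) : (Opens.map (hTop hZ)).obj (Ub I f) = HensSch.dOpen π f := by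
  ext z
  show (iY I).base (hpt hZ z) ∈ PrimeSpectrum.basicOpen f ↔ π.base z ∈ PrimeSpectrum.basicOpen f
  rw [iY_hpt hZ z]

omit [HenselianRing A I] hZ in
theorem isBasis_Ub : Opens.IsBasis (Set.range fun f : A => Ub I f) := by
  rw [Opens.isBasis_iff_nbhd]
  intro U y hy
  haveI : IsClosedImmersion (iY I) := IsClosedImmersion.spec_of_surjective _ Ideal.Quotient.mk_surjective
  obtain ⟨V, hV, hVU⟩ := (Scheme.Hom.isClosedEmbedding (iY I)).isInducing.isOpen_iff.mp U.2
  obtain ⟨_, ⟨f, rfl⟩, hyf, hfV⟩ := PrimeSpectrum.isTopologicalBasis_basic_opens.exists_subset_of_mem_open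
    (show (iY I).base y ∈ V from (Set.ext_iff.1 hVU y).2 hy) hV
  exact ⟨Ub I f, ⟨f, rfl⟩, hyf, fun y' hy' => (Set.ext_iff.1 hVU y').1 (hfV hy')⟩

variable (F : (Spec (CommRingCat.of A)).Modules) [F.IsQuasicoherent] {G : EtCoh.Ab (Spec (CommRingCat.of A))}
  (hG : EtAssoc.IsAssoc F G)

/-- The module of global sections. -/
abbrev MΓ : ModuleCat.{u} A := (moduleSpecΓFunctor (R := CommRingCat.of A)).obj F

/-- The sheaf on the henselian spectrum. -/
abbrev P0 : CohTop.Ab Z.toTopCat := ModSite.toAb (HensSch.sphTilde π (MΓ F))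

include hG

theorem exists_iso_basis (f : A) :
    ∃ e : ToType (((Opens.map (hTop hZ)).op ⋙ (P0 (π := π) F).obj).obj (op (Ub I f))) ≃+
        ToType (((EtCoh.pull (iY I)).obj G).obj.obj (op (zU I (Ub I f)))),
      ∀ s, secT G (iY I) (zU I (Ub I f)) (e s) = e0map G (jf hZ f) (psi0 hG (isInd_Sf hZ f)
        ((AddEquiv.ofBijective _ (HensGlueLib.Θ_bijective π (MΓ F) hZ f)).symm
          (HensGlueLib.resM π (MΓ F) (preimage_Ub hZ f).ge s))) := by
  letI : Algebra (Localization.Away f) (Sf π f) := (IsLocalization.Away.lift f (g := algebraMap A (Sf π f)) (hZ.2.2 f).1).toAlgebra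
  haveI : IsScalarTower A (Localization.Away f) (Sf π f) :=
    IsScalarTower.of_algebraMap_eq fun x => (IsLocalization.Away.lift_eq f (hZ.2.2 f).1 x).symm
  have hH := isPairHenselization_Sf hZ f
  obtain ⟨h1, h2⟩ := classes_from_etale hH G
  have hψ := psi0_bijective hG (isInd_Sf hZ f) h1 h2
  let eT : ToType (((EtCoh.pull (iY I)).obj G).obj.obj (op (zU I (Ub I f)))) ≃+ E0 G (oY (iY I) (zU I (Ub I f))) :=
    AddEquiv.ofBijective (AddMonoidHom.mk' (secT G (iY I) (zU I (Ub I f))) (secT_add G (iY I) _))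
      (bijective_secT G (iY I) _)
  have hres : Function.Bijective (HensGlueLib.resM π (MΓ F) (preimage_Ub hZ f).ge) :=
    ⟨Function.LeftInverse.injective (g := HensGlueLib.resM π (MΓ F) (preimage_Ub hZ f).le) fun s => by
        rw [HensGlueLib.resM_resM]
        exact ConcreteCategory.congr_hom ((HensSch.sphTilde π (MΓ F)).val.presheaf.map_id _) s,
      Function.RightInverse.surjective (g := HensGlueLib.resM π (MΓ F) (preimage_Ub hZ f).le) fun s => by
        rw [HensGlueLib.resM_resM]
        exact ConcreteCategory.congr_hom ((HensSch.sphTilde π (MΓ F)).val.presheaf.map_id _) s⟩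
  let e1 := AddEquiv.ofBijective _ hres
  let e2 := (AddEquiv.ofBijective _ (HensGlueLib.Θ_bijective π (MΓ F) hZ f)).symm
  let e3 := AddEquiv.ofBijective _ hψ
  let e4 := AddEquiv.ofBijective _ (bijective_jf hZ G f)
  refine ⟨((((e1.trans e2).trans e3).trans e4).trans eT.symm), fun s => ?_⟩
  exact eT.apply_symm_apply _

theorem nonempty_iso [EtZar.ZarCont (Yc I)] :
    Nonempty ((EtZarLib.up (Yc I)).obj ((CohTop.push (hTop hZ)).obj (P0 (π := π) F)) ≅
      (EtZar.resZar (Yc I)).obj ((EtCoh.pull (iY I)).obj G)) := by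
  choose e he using exists_iso_basis hZ F hG
  let Q := (EtZarLib.up (Yc I)).obj ((CohTop.push (hTop hZ)).obj (P0 (π := π) F))
  let T := (EtZar.resZar (Yc I)).obj ((EtCoh.pull (iY I)).obj G)
  let B : A → Opens (Yc I).toTopCat := fun f => Ub I f
  let ψ : ∀ f : A, ToType (Q.obj.obj (op (B f))) ≃+ ToType (T.obj.obj (op (B f))) :=
    fun f => AddEquiv.ulift.trans (e f)
  let η : (inducedFunctor B).op ⋙ Q.obj ⟶ (inducedFunctor B).op ⋙ T.obj :=
    { app := fun f => AddCommGrpCat.ofHom (ψ f.unop).toAddMonoidHom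
      naturality := fun f g k => by
        refine ConcreteCategory.hom_ext _ _ fun s => ?_
        have hle : Ub I g.unop ≤ Ub I f.unop := leOfHom ((inducedFunctor B).map k.unop)
        have hd : HensSch.dOpen π g.unop ≤ HensSch.dOpen π f.unop := by
          rw [← preimage_Ub hZ, ← preimage_Ub hZ]
          exact (Opens.map (hTop hZ)).monotone hle
        apply (bijective_secT G (iY I) (zU I (Ub I g.unop))).1
        show secT G (iY I) _ (e g.unop _) =
          secT G (iY I) _ (((EtCoh.pull (iY I)).obj G).obj.map ((EtZar.zarToEt (Yc I)).map (homOfLE hle)).op (e f.unop s.down))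
        rw [← secT_natural, he, he, e0map_comp, jf_natural hZ hd hle, ← e0map_comp, psi0_natural hG _ (isInd_Sf hZ g.unop)]
        refine congrArg (fun t => e0map G (jf hZ g.unop) (psi0 hG (isInd_Sf hZ g.unop) t)) ?_
        apply (HensGlueLib.Θ_bijective π (MΓ F) hZ g.unop).1
        refine (AddEquiv.apply_symm_apply (AddEquiv.ofBijective _ (HensGlueLib.Θ_bijective π (MΓ F) hZ g.unop)) _).trans ?_
        refine Eq.trans ?_ (HensGlueLib.resM_Θ π (MΓ F) hd _)
        refine Eq.trans ?_ (congrArg (HensGlueLib.resM π (MΓ F) hd)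
          (AddEquiv.apply_symm_apply (AddEquiv.ofBijective _ (HensGlueLib.Θ_bijective π (MΓ F) hZ f.unop)) _).symm)
        rw [HensGlueLib.resM_resM]
        exact HensGlueLib.resM_resM π (MΓ F) _ _ s.down }
  let φ : Q ⟶ T := ObjectProperty.homMk (TopCat.Sheaf.restrictHomEquivHom Q.obj T isBasis_Ub η)
  haveI : IsIso φ := TopCat.Sheaf.isIso_iff_isIso_basis isBasis_Ub fun f => by
    show IsIso ((TopCat.Sheaf.restrictHomEquivHom Q.obj T isBasis_Ub η).app (op (B f)))
    rw [TopCat.Sheaf.extend_hom_app]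
    exact (ConcreteCategory.isIso_iff_bijective _).2 (ψ f).bijective
  exact ⟨asIso φ⟩

omit [HenselianRing A I] hZ hG [F.IsQuasicoherent] in
theorem subsingleton_H_of_push {X Y : TopCat.{u}} (f : X ⟶ Y) (hf : Topology.IsClosedEmbedding f) (j : ℕ)
    (P : CohTop.Ab X) (h : Subsingleton (CohTop.H ((CohTop.push f).obj P) j)) : Subsingleton (CohTop.H P j) := by
  obtain ⟨e⟩ := CohTopLib.nonempty_H_push_equiv f hf j P
  exact @Function.Injective.subsingleton _ _ e e.injective h

theorem subsingleton_HC [EtZar.ZarCont (Yc I)] (j : ℕ)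
    (h : Subsingleton (EtZar.H ((EtZar.resZar (Yc I)).obj ((EtCoh.pull (iY I)).obj G)) j)) :
    Subsingleton (ModSite.HC Z.sheaf ((HensSch.pullMod π).obj F) j) := by
  obtain ⟨γ⟩ := nonempty_iso hZ F hG
  obtain ⟨e2⟩ := EtZarLib.nonempty_up_equiv (X := Yc I) j ((CohTop.push (hTop hZ)).obj (P0 (π := π) F))
  haveI := h
  have h1 : Subsingleton (EtZar.H ((EtZarLib.up (Yc I)).obj ((CohTop.push (hTop hZ)).obj (P0 (π := π) F))) j) :=
    Function.LeftInverse.injective (g := Sheaf.H.map γ.inv j) (f := Sheaf.H.map γ.hom j)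
      (fun x => by rw [← Sheaf.H.map_comp_apply, Iso.hom_inv_id, Sheaf.H.map_id_apply]) |>.subsingleton
  have h2a : Subsingleton (CohTop.H ((CohTop.push (hTop hZ)).obj (P0 (π := π) F)) j) := by
    haveI := h1
    exact e2.injective.subsingleton
  have h2 : Subsingleton (CohTop.H (P0 (π := π) F) j) := by
    exact subsingleton_H_of_push (hTop hZ) (isClosedEmbedding_hpt hZ) j (P0 (π := π) F) h2a
  haveI : IsIso (Scheme.Modules.fromTildeΓ (R := CommRingCat.of A) F) :=
    @Scheme.Modules.isIso_fromTildeΓ_of_isQuasicoherent (CommRingCat.of A) F (by assumption)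
  let φ0 := Scheme.Modules.fromTildeΓ (R := CommRingCat.of A) F
  let θ := (SheafOfModules.toSheaf (ModSite.ringSh Z.sheaf)).map ((HensSch.pullMod π).map φ0)
  exact @Function.Injective.subsingleton _ _ (Sheaf.H.map (inv θ) j)
    (Function.LeftInverse.injective (g := Sheaf.H.map θ j) (f := Sheaf.H.map (inv θ) j)
      (fun x => by rw [← Sheaf.H.map_comp_apply, IsIso.inv_hom_id, Sheaf.H.map_id_apply])) h2

end HensVanLib
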